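import Groth.Agent.L03.LWU.Bertini
import Mathlib.RingTheory.Spectrum.Prime.Chevalley
import Mathlib.RingTheory.Nullstellensatz
import Mathlib.RingTheory.TensorProduct.Basic
import Mathlib.LinearAlgebra.TensorProduct.Tower
import Mathlib.RingTheory.Flat.Basic
import Mathlib.RingTheory.Flat.FaithfullyFlat.Algebra

/-!
# The bad planes lie on few hypersurfaces
-/

set_option autoImplicit false
set_option linter.style.haveILetI false
universe u v w

open MvPolynomial
open scoped TensorProduct

namespace Groth.L03.LWU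

/-- Exponents in two variables of degree at most `d`. -/
abbrev Mon (d : ℕ) : Type := {p : Fin (d + 1) × Fin (d + 1) // (p.1 : ℕ) + p.2 ≤ d}

noncomputable def monExp {d : ℕ} (p : Mon d) : Fin 2 →₀ ℕ :=
  Finsupp.single 0 (p.1.1 : ℕ) + Finsupp.single 1 (p.1.2 : ℕ)

theorem monExp_injective (d : ℕ) : Function.Injective (monExp (d := d)) := by
  intro p q h
  have h0 := DFunLike.congr_fun h 0
  have h1 := DFunLike.congr_fun h 1
  simp [monExp] at h0 h1
  exact Subtype.ext (Prod.ext (Fin.ext h0) (Fin.ext h1))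

theorem degree_monExp {d : ℕ} (p : Mon d) : (monExp p).sum (fun _ e => e) = p.1.1 + p.1.2 := by
  rw [monExp, Finsupp.sum_add_index' (fun _ => rfl) (fun _ _ _ => rfl), Finsupp.sum_single_index rfl,
    Finsupp.sum_single_index rfl]

theorem exists_monExp {d : ℕ} (e : Fin 2 →₀ ℕ) (he : (e.sum fun _ n => n) ≤ d) : ∃ p : Mon d, monExp p = e := by
  have hs : (e.sum fun _ n => n) = e 0 + e 1 := by
    rw [Finsupp.sum_fintype _ _ (fun _ => rfl), Fin.sum_univ_two]
  refine ⟨⟨(⟨e 0, by omega⟩, ⟨e 1, by omega⟩), by show e 0 + e 1 ≤ d; omega⟩, ?_⟩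
  ext i
  fin_cases i <;> simp [monExp]

/-- The polynomial with given coefficients. -/
noncomputable def genPoly {d : ℕ} {A : Type v} [CommRing A] (c : Mon d → A) : MvPolynomial (Fin 2) A :=
  ∑ p, monomial (monExp p) (c p)

section genPoly

variable {d : ℕ} {A : Type v} [CommRing A] (c : Mon d → A)

theorem coeff_genPoly (p : Mon d) : coeff (monExp p) (genPoly c) = c p := by
  classical
  rw [genPoly, coeff_sum, Finset.sum_eq_single p]
  · rw [coeff_monomial, if_pos rfl]
  · intro q _ hq
    rw [coeff_monomial, if_neg fun h => hq (monExp_injective d h)]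
  · simp

theorem totalDegree_genPoly_le : (genPoly c).totalDegree ≤ d := by
  refine (totalDegree_finsetSum _ _).trans (Finset.sup_le fun p _ => (totalDegree_monomial_le _ _).trans ?_)
  exact (degree_monExp p).trans_le p.2

theorem eq_genPoly {f : MvPolynomial (Fin 2) A} (hf : f.totalDegree ≤ d) :
    f = genPoly fun p : Mon d => coeff (monExp p) f := by
  classical
  ext e
  by_cases he : (e.sum fun _ n => n) ≤ d
  · obtain ⟨p, rfl⟩ := exists_monExp e he
    rw [coeff_genPoly]
  · rw [coeff_eq_zero_of_totalDegree_lt, coeff_eq_zero_of_totalDegree_lt]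
    · exact (totalDegree_genPoly_le _).trans_lt (not_le.mp he)
    · exact hf.trans_lt (not_le.mp he)

theorem map_genPoly {B : Type*} [CommRing B] (φ : A →+* B) : map φ (genPoly c) = genPoly (φ ∘ c) := by
  simp [genPoly, map_monomial]

theorem totalDegree_genPoly {p : Mon d} (hp : (p.1.1 : ℕ) + p.1.2 = d) (hc : c p ≠ 0) :
    (genPoly c).totalDegree = d := by
  refine le_antisymm (totalDegree_genPoly_le c) ?_
  have hmem : monExp p ∈ (genPoly c).support := by rw [mem_support_iff, coeff_genPoly]; exact hc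
  calc d = (monExp p).sum (fun _ e => e) := by rw [degree_monExp, hp]
    _ ≤ _ := le_totalDegree hmem

end genPoly

abbrev PR (d : ℕ) : Type := MvPolynomial (Mon d) ℤ

/-- Evaluation of the parameters at a coefficient vector. -/
noncomputable def coefHom {d : ℕ} {A : Type v} [CommRing A] (c : Mon d → A) : PR d →+* A :=
  eval₂Hom (Int.castRingHom A) c

theorem coefHom_comp {d : ℕ} {A B : Type*} [CommRing A] [CommRing B] (φ : A →+* B) (c : Mon d → A) :
    φ.comp (coefHom c) = coefHom (φ ∘ c) := by
  refine MvPolynomial.ringHom_ext (fun z => ?_) fun p => ?_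
  · simp [coefHom]
  · simp [coefHom]

noncomputable def coefPrime {d : ℕ} {F : Type v} [Field F] (c : Mon d → F) : PrimeSpectrum (PR d) :=
  ⟨RingHom.ker (coefHom c), RingHom.ker_isPrime _⟩

theorem coefPrime_comp {d : ℕ} {F E : Type*} [Field F] [Field E] (φ : F →+* E) (c : Mon d → F) :
    coefPrime (φ ∘ c) = coefPrime c := by
  apply PrimeSpectrum.ext
  show RingHom.ker (coefHom (φ ∘ c)) = RingHom.ker (coefHom c)
  rw [← coefHom_comp, RingHom.ker_comp_of_injective _ φ.injective]

/-- Products of two factors of degrees `a`, `b`. -/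
noncomputable def mulHom (d a b : ℕ) : PR d →+* MvPolynomial (Mon a ⊕ Mon b) ℤ :=
  coefHom fun p => coeff (monExp p)
    (genPoly (fun i : Mon a => (X (Sum.inl i) : MvPolynomial (Mon a ⊕ Mon b) ℤ)) *
      genPoly (fun j : Mon b => (X (Sum.inr j) : MvPolynomial (Mon a ⊕ Mon b) ℤ)))

theorem mulHom_finitePresentation (d a b : ℕ) : (mulHom d a b).FinitePresentation := by
  refine RingHom.FinitePresentation.of_finiteType.mp ?_
  refine RingHom.FiniteType.of_comp_finiteType (f := (C : ℤ →+* PR d)) ?_
  have : (mulHom d a b).comp C = algebraMap ℤ (MvPolynomial (Mon a ⊕ Mon b) ℤ) := RingHom.ext_int _ _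
  rw [this, RingHom.finiteType_algebraMap]
  infer_instance

/-- The evaluation of a pair of coefficient vectors. -/
theorem comp_mulHom {d a b : ℕ} {A : Type*} [CommRing A] (ev : MvPolynomial (Mon a ⊕ Mon b) ℤ →+* A) :
    ev.comp (mulHom d a b) = coefHom (fun p : Mon d => coeff (monExp p)
      (genPoly (fun i : Mon a => ev (X (Sum.inl i))) * genPoly fun j : Mon b => ev (X (Sum.inr j)))) := by
  rw [mulHom, coefHom_comp]
  congr 1
  funext p
  rw [Function.comp_apply, ← coeff_map, map_mul, map_genPoly, map_genPoly]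
  rfl

/-- The parameters of the curves that are of lower degree or reducible. -/
noncomputable def Bad (d : ℕ) : Set (PrimeSpectrum (PR d)) :=
  PrimeSpectrum.zeroLocus (Set.range fun p : {p : Mon d // (p.1.1 : ℕ) + p.1.2 = d} => (X p.1 : PR d)) ∪
    ⋃ a ∈ Finset.Icc 1 (d - 1), Set.range (PrimeSpectrum.comap (mulHom d a (d - a)))

theorem isConstructible_bad (d : ℕ) : Topology.IsConstructible (Bad d) := by
  refine Topology.IsConstructible.union ?_ (.biUnion (Finset.finite_toSet _) fun a _ => ?_)
  · rw [← Topology.isConstructible_compl]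
    exact (PrimeSpectrum.isRetrocompact_zeroLocus_compl (Set.finite_range _)).isConstructible
      (PrimeSpectrum.isClosed_zeroLocus _).isOpen_compl
  · exact PrimeSpectrum.isConstructible_range_comap (mulHom_finitePresentation _ _ _)

/-- Two fields containing a common domain map to a common field. -/
theorem exists_common_field {A : Type v} [CommRing A] {S : Type w} [CommRing S] {K : Type u} [Field K]
    (χ : A →+* K) (μ : A →+* S) (P : PrimeSpectrum S) (h : P.asIdeal.comap μ = RingHom.ker χ) :
    ∃ (Ω : Type max u w) (_ : Field Ω) (i : K →+* Ω) (ev : S →+* Ω), ev.comp μ = i.comp χ := by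
  haveI : (RingHom.ker χ).IsPrime := RingHom.ker_isPrime _
  let p := RingHom.ker χ
  let L := FractionRing (S ⧸ P.asIdeal)
  let iK : A ⧸ p →+* K := Ideal.Quotient.lift p χ fun a ha => ha
  have hK : Function.Injective iK := RingHom.lift_injective_of_ker_le_ideal _ _ le_rfl
  let πS : S →+* L := (algebraMap (S ⧸ P.asIdeal) L).comp (Ideal.Quotient.mk _)
  have hker : RingHom.ker (πS.comp μ) = p := by
    rw [← RingHom.comap_ker, RingHom.ker_comp_of_injective _ (IsFractionRing.injective (S ⧸ P.asIdeal) L),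
      Ideal.mk_ker]
    exact h
  let iL : A ⧸ p →+* L := Ideal.Quotient.lift p (πS.comp μ) fun a ha => hker.ge ha
  have hL : Function.Injective iL := RingHom.lift_injective_of_ker_le_ideal _ _ hker.le
  let Q := FractionRing (A ⧸ p)
  letI : Algebra Q K := (IsFractionRing.lift hK : Q →+* K).toAlgebra
  letI : Algebra Q L := (IsFractionRing.lift hL : Q →+* L).toAlgebra
  haveI : Nontrivial (K ⊗[Q] L) := Algebra.TensorProduct.nontrivial_of_algebraMap_injective_of_flat_left Q K L
    (algebraMap Q L).injective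
  obtain ⟨M, hM⟩ := Ideal.exists_maximal (K ⊗[Q] L)
  letI := Ideal.Quotient.field M
  refine ⟨(K ⊗[Q] L) ⧸ M, inferInstance, (Ideal.Quotient.mk M).comp Algebra.TensorProduct.includeLeftRingHom,
    ((Ideal.Quotient.mk M).comp (Algebra.TensorProduct.includeRight (R := Q) (A := K) (B := L)).toRingHom).comp πS, ?_⟩
  ext a
  have h1 : χ a = algebraMap Q K (algebraMap (A ⧸ p) Q (Ideal.Quotient.mk p a)) :=
    (IsFractionRing.lift_algebraMap (K := Q) hK (Ideal.Quotient.mk p a)).symm
  have h2 : πS (μ a) = algebraMap Q L (algebraMap (A ⧸ p) Q (Ideal.Quotient.mk p a)) :=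
    (IsFractionRing.lift_algebraMap (K := Q) hL (Ideal.Quotient.mk p a)).symm
  show Ideal.Quotient.mk M ((1 : K) ⊗ₜ[Q] πS (μ a)) = Ideal.Quotient.mk M (χ a ⊗ₜ[Q] (1 : L))
  rw [h1, h2, Algebra.algebraMap_eq_smul_one (A := L), Algebra.algebraMap_eq_smul_one (A := K),
    TensorProduct.smul_tmul]

theorem notMem_bad {d : ℕ} {F : Type u} [Field F] {c : Mon d → F} (h : AbsIrr (genPoly c))
    (hdeg : (genPoly c).totalDegree = d) : coefPrime c ∉ Bad d := by
  classical
  rintro (hlow | hred)
  · -- some top coefficient is nonzero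
    have hf0 : genPoly c ≠ 0 := h.irreducible.ne_zero
    obtain ⟨e, he, hed⟩ := Finset.exists_mem_eq_sup _ (support_nonempty.mpr hf0)
      (fun s : Fin 2 →₀ ℕ => s.sum fun _ n => n)
    rw [← totalDegree, hdeg] at hed
    obtain ⟨p, rfl⟩ := exists_monExp e hed.ge
    rw [degree_monExp] at hed
    have hm : (X p : PR d) ∈ RingHom.ker (coefHom c) := hlow ⟨⟨p, hed.symm⟩, rfl⟩
    rw [mem_support_iff, coeff_genPoly] at he
    exact he (by simpa [coefHom] using hm)
  · obtain ⟨a, ha, P, hP⟩ := by simpa only [Set.mem_iUnion, Set.mem_range, exists_prop] using hred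
    rw [Finset.mem_Icc] at ha
    let K := AlgebraicClosure F
    let cK : Mon d → K := algebraMap F K ∘ c
    have hPK : P.asIdeal.comap (mulHom d a (d - a)) = RingHom.ker (coefHom cK) := by
      have := congrArg PrimeSpectrum.asIdeal (hP.trans (coefPrime_comp (algebraMap F K) c).symm)
      exact this
    obtain ⟨Ω, _, i, ev, hev⟩ := exists_common_field (coefHom cK) _ P hPK
    let V := Mon a ⊕ Mon (d - a)
    let prodK : MvPolynomial (Fin 2) (MvPolynomial V K) :=
      genPoly (fun i => (X (Sum.inl i) : MvPolynomial V K)) * genPoly fun j => (X (Sum.inr j) : MvPolynomial V K)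
    let J : Ideal (MvPolynomial V K) :=
      Ideal.span (Set.range fun p => coeff (monExp p) prodK - C (cK p))
    let evΩ : MvPolynomial V K →+* Ω := eval₂Hom i fun v => ev (X v)
    have hJ : J ≤ RingHom.ker evΩ := by
      rw [Ideal.span_le]
      rintro _ ⟨p, rfl⟩
      have h1 := RingHom.congr_fun hev (X p)
      rw [comp_mulHom] at h1
      simp only [coefHom, coe_eval₂Hom, eval₂_X, RingHom.comp_apply] at h1
      rw [SetLike.mem_coe, RingHom.mem_ker, map_sub, sub_eq_zero, ← coeff_map]
      simp only [prodK, map_mul, map_genPoly]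
      rw [show (evΩ : MvPolynomial V K → Ω) (C (cK p)) = i (cK p) by simp [evΩ], ← h1]
      simp [evΩ, Function.comp_def]
    obtain ⟨x, hx⟩ : ∃ x : V → K, x ∈ zeroLocus K J := by
      by_contra! hempty
      have htop : vanishingIdeal K (zeroLocus K J) = (⊤ : Ideal (MvPolynomial V K)) :=
        eq_top_iff.mpr fun r _ y hy => absurd hy (hempty y)
      rw [vanishingIdeal_zeroLocus_eq_radical, Ideal.radical_eq_top] at htop
      exact (RingHom.ker_ne_top evΩ) (top_le_iff.mp (htop ▸ hJ))
    let A := genPoly fun i => x (Sum.inl i)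
    let B := genPoly fun j => x (Sum.inr j)
    have hprod : genPoly cK = A * B := by
      refine (eq_genPoly (d := d) (f := A * B) ((totalDegree_mul _ _).trans ?_)).symm ▸ ?_
      · have h1 : A.totalDegree ≤ a := totalDegree_genPoly_le _
        have h2 : B.totalDegree ≤ d - a := totalDegree_genPoly_le _
        omega
      congr 1
      funext p
      have h1 : aeval x (coeff (monExp p) prodK - C (cK p)) = 0 := hx _ (Ideal.subset_span ⟨p, rfl⟩)
      rw [map_sub, sub_eq_zero, aeval_C, Algebra.algebraMap_self, RingHom.id_apply] at h1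
      rw [← h1, ← AlgHom.coe_toRingHom, ← coeff_map]
      simp [prodK, map_genPoly, A, B, Function.comp_def]
    have hirr : Irreducible (A * B) := by
      rw [← hprod, ← map_genPoly]
      exact h
    have hd : (A * B).totalDegree = d := by
      rw [← hprod, ← map_genPoly, totalDegree_map, hdeg]
    have hA0 : A ≠ 0 := left_ne_zero_of_mul hirr.ne_zero
    have hB0 : B ≠ 0 := right_ne_zero_of_mul hirr.ne_zero
    rw [totalDegree_mul_of_isDomain hA0 hB0] at hd
    have h1 : A.totalDegree ≤ a := totalDegree_genPoly_le _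
    have h2 : B.totalDegree ≤ d - a := totalDegree_genPoly_le _
    rcases hirr.isUnit_or_isUnit rfl with hu | hu <;>
      rw [isUnit_iff_totalDegree_of_isReduced] at hu <;> have := hu.2 <;> omega

theorem absIrr_of_notMem_bad {d : ℕ} (hd : 1 ≤ d) {F : Type u} [Field F] {c : Mon d → F}
    (h : coefPrime c ∉ Bad d) : AbsIrr (genPoly c) ∧ (genPoly c).totalDegree = d := by
  classical
  simp only [Bad, Set.mem_union, Set.mem_iUnion, Set.mem_range, not_or, not_exists] at h
  obtain ⟨hlow, hred⟩ := h
  have hdeg : (genPoly c).totalDegree = d := by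
    obtain ⟨p, hp, hc⟩ : ∃ p : Mon d, (p.1.1 : ℕ) + p.1.2 = d ∧ c p ≠ 0 := by
      by_contra! hall
      refine hlow ?_
      rintro _ ⟨⟨p, hp⟩, rfl⟩
      show coefHom c (X p) = 0
      simp [coefHom, hall p hp]
    exact totalDegree_genPoly c hp hc
  refine ⟨⟨fun hu => ?_, fun A B hAB => ?_⟩, hdeg⟩
  · rw [isUnit_iff_totalDegree_of_isReduced, totalDegree_map, hdeg] at hu
    omega
  by_contra! hne
  let K := AlgebraicClosure F
  have hdK : (map (algebraMap F K) (genPoly c)).totalDegree = d := by rw [totalDegree_map, hdeg]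
  have hne0 : map (algebraMap F K) (genPoly c) ≠ 0 := fun h0 => by
    rw [h0, totalDegree_zero] at hdK; omega
  rw [hAB] at hdK hne0
  have hA0 : A ≠ 0 := left_ne_zero_of_mul hne0
  have hB0 : B ≠ 0 := right_ne_zero_of_mul hne0
  rw [totalDegree_mul_of_isDomain hA0 hB0] at hdK
  have hpos : ∀ P : MvPolynomial (Fin 2) K, P ≠ 0 → ¬ IsUnit P → 1 ≤ P.totalDegree := by
    intro P hP hPu
    by_contra! h0
    have h0' : P.totalDegree = 0 := by omega
    rw [totalDegree_eq_zero_iff_eq_C] at h0'
    refine hPu (h0' ▸ (IsUnit.map C (isUnit_iff_ne_zero.mpr fun hc => hP ?_)))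
    rw [h0', hc, map_zero]
  have hApos := hpos A hA0 hne.1
  have hBpos := hpos B hB0 hne.2
  have hBd : B.totalDegree = d - A.totalDegree := by omega
  let x : Mon A.totalDegree ⊕ Mon (d - A.totalDegree) → K :=
    Sum.elim (fun i => coeff (monExp i) A) fun j => coeff (monExp j) B
  let ev : MvPolynomial (Mon A.totalDegree ⊕ Mon (d - A.totalDegree)) ℤ →+* K := eval₂Hom (Int.castRingHom K) x
  refine hred A.totalDegree (Finset.mem_Icc.mpr ⟨hApos, by omega⟩) ⟨RingHom.ker ev, RingHom.ker_isPrime _⟩ ?_
  rw [← coefPrime_comp (algebraMap F K) c]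
  apply PrimeSpectrum.ext
  show (RingHom.ker ev).comap _ = RingHom.ker (coefHom _)
  rw [RingHom.comap_ker, comp_mulHom]
  congr 2
  funext p
  rw [show (fun i => ev (X (Sum.inl i))) = fun i : Mon A.totalDegree => coeff (monExp i) A from
      funext fun i => by simp [ev, x],
    show (fun j => ev (X (Sum.inr j))) = fun j : Mon (d - A.totalDegree) => coeff (monExp j) B from
      funext fun j => by simp [ev, x],
    ← eq_genPoly le_rfl, ← eq_genPoly hBd.le, ← hAB, map_genPoly, coeff_genPoly]

/-- All coefficients have bounded degree. -/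
def CoeffBound {σ : Type*} {R : Type u} [CommRing R] {τ : Type*} (n : ℕ)
    (P : MvPolynomial σ (MvPolynomial τ R)) : Prop :=
  ∀ e, (coeff e P).totalDegree ≤ n

theorem coeffBound_aeval {σ τ υ : Type*} {R : Type u} [CommRing R]
    (g : υ → MvPolynomial σ (MvPolynomial τ R)) (hg : ∀ i, CoeffBound 1 (g i)) (f : MvPolynomial υ R) :
    CoeffBound f.totalDegree (aeval g f) := by
  classical
  have hmono : ∀ {a b : ℕ} {P : MvPolynomial σ (MvPolynomial τ R)}, a ≤ b → CoeffBound a P → CoeffBound b P :=
    fun hab hP e => (hP e).trans hab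
  have hmul : ∀ {a b : ℕ} {P Q : MvPolynomial σ (MvPolynomial τ R)}, CoeffBound a P → CoeffBound b Q →
      CoeffBound (a + b) (P * Q) := by
    intro a b P Q hP hQ e
    rw [coeff_mul]
    exact (totalDegree_finsetSum _ _).trans
      (Finset.sup_le fun x _ => (totalDegree_mul _ _).trans (add_le_add (hP _) (hQ _)))
  have hC : ∀ c : R, CoeffBound 0 (C (C c) : MvPolynomial σ (MvPolynomial τ R)) := by
    intro c e
    rw [coeff_C]
    split_ifs <;> simp
  have hpow : ∀ (i : υ) (n : ℕ), CoeffBound n (g i ^ n) := by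
    intro i n
    induction n with
    | zero => simpa using hC 1
    | succ n ih => rw [pow_succ]; exact hmul ih (hg i)
  intro e
  rw [aeval_def, eval₂_eq, coeff_sum]
  refine (totalDegree_finsetSum _ _).trans (Finset.sup_le fun s hs => ?_)
  have hprod : CoeffBound (∑ i ∈ s.support, s i) (∏ i ∈ s.support, g i ^ s i) := by
    induction s.support using Finset.induction_on with
    | empty => simpa using hC 1
    | @insert a t ha ih => rw [Finset.prod_insert ha, Finset.sum_insert ha]; exact hmul (hpow a _) ih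
  exact hmono (le_totalDegree hs) (by simpa [Finsupp.sum] using hmul (hC _) hprod) e

/-- The section by the plane `L` is absolutely irreducible of the same degree. -/
def GoodPlane {K : Type u} [Field K] {m : ℕ} (d : ℕ) (f : MvPolynomial (Fin (m + 2)) K) (L : PP m → K) : Prop :=
  AbsIrr (aeval (planeVals L) f) ∧ (aeval (planeVals L) f).totalDegree = d

theorem coeffBound_planeVals {R : Type u} [CommRing R] {m : ℕ} (i : Fin (m + 2)) :
    CoeffBound 1 (planeVals (R := MvPolynomial (PP m) R) X i) := by
  classical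
  have hX : ∀ j : Fin 2, ∀ e, (coeff e (X j : MvPolynomial (Fin 2) (MvPolynomial (PP m) R))).totalDegree ≤ 1 := by
    intro j e
    rw [coeff_X']
    split_ifs <;> simp
  have hXP : ∀ p : PP m, (X p : MvPolynomial (PP m) R).totalDegree ≤ 1 := fun p =>
    (totalDegree_monomial_le (R := R) _ _).trans (by simp)
  refine Fin.cases ?_ (fun i => ?_) i
  · exact hX 0
  refine Fin.cases ?_ (fun j => ?_) i
  · exact hX 1
  intro e
  rw [planeVals_succ, coeff_add, coeff_add, coeff_C_mul, coeff_C_mul, coeff_C, coeff_X', coeff_X']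
  refine (totalDegree_add _ _).trans (max_le ((totalDegree_add _ _).trans (max_le ?_ ?_)) ?_) <;>
    split_ifs <;> simp [hXP]

theorem card_bad_planes_le (d m : ℕ) (hd : 1 ≤ d) : ∃ C : ℕ, ∀ (K : Type u) [Field K] [Finite K]
    (f : MvPolynomial (Fin (m + 2)) K), f.totalDegree = d → AbsIrr f →
    Nat.card {L : PP m → K // ¬ GoodPlane d f L} * Nat.card K ≤ C * Nat.card K ^ Nat.card (PP m) := by
  classical
  obtain ⟨data, hdata⟩ := PrimeSpectrum.exists_constructibleSetData_iff.mpr (isConstructible_bad d)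
  refine ⟨∑ B ∈ data, ∑ i, d * (B.g i).totalDegree, fun K _ _ f hfd hf => ?_⟩
  let P := MvPolynomial (PP m) K
  let G : MvPolynomial (Fin 2) P := aeval (planeVals X) f
  have hG : G.totalDegree ≤ d := hfd ▸ totalDegree_aeval_le' _ (totalDegree_planeVals_le _) f
  let cgen : Mon d → P := fun p => coeff (monExp p) G
  have hdeg : ∀ g : PR d, (coefHom cgen g).totalDegree ≤ d * g.totalDegree := fun g => by
    have h := totalDegree_aeval_le (R := ℤ) (S := K) (σ := Mon d) (τ := PP m) cgen (c := d)
      (fun p => hfd ▸ coeffBound_aeval _ coeffBound_planeVals f _) g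
    rw [aeval_def] at h
    have e : coefHom cgen g = eval₂ (algebraMap ℤ P) cgen g := by
      rw [RingHom.ext_int (algebraMap ℤ P) (Int.castRingHom P)]; rfl
    rw [e]
    exact h
  -- the generic plane is good
  let E := FractionRing P
  have hgen : coefPrime (algebraMap P E ∘ cgen) ∉ Bad d := by
    have hE : genPoly (algebraMap P E ∘ cgen) =
        aeval (planeVals fun p => algebraMap P E (X p)) f := by
      rw [← map_genPoly, ← eq_genPoly hG]
      exact map_aeval_planeVals (IsScalarTower.toAlgHom K P E) X f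
    obtain ⟨h1, h2⟩ := generic_plane (E := E) hf
    exact notMem_bad (hE ▸ h1) (by rw [hE, h2, hfd])
  -- specialisation
  have hspec : ∀ L : PP m → K, aeval (planeVals L) f = genPoly ((aeval L : P →ₐ[K] K) ∘ cgen) := fun L => by
    rw [show (⇑(aeval L : P →ₐ[K] K) ∘ cgen) = ⇑((aeval L : P →ₐ[K] K) : P →+* K) ∘ cgen from rfl,
      ← map_genPoly, ← eq_genPoly hG]
    have := map_aeval_planeVals (aeval L : P →ₐ[K] K) X f
    rw [show (⇑(aeval L : P →ₐ[K] K) ∘ X) = L from funext fun p => aeval_X L p] at this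
    exact this.symm
  have hbad : ∀ L : PP m → K, ¬ GoodPlane d f L →
      ∃ B ∈ data, ∃ i, coefHom cgen (B.g i) ≠ 0 ∧ eval L (coefHom cgen (B.g i)) = 0 := by
    intro L hL
    have hmem : coefPrime ((aeval L : P →ₐ[K] K) ∘ cgen) ∈ Bad d := by
      by_contra h
      exact hL (by rw [GoodPlane, hspec]; exact absIrr_of_notMem_bad hd h)
    rw [← hdata] at hmem hgen
    simp only [PrimeSpectrum.ConstructibleSetData.toSet, Set.mem_iUnion, exists_prop] at hmem hgen
    push Not at hgen
    obtain ⟨B, hB, hBg, hBf⟩ := hmem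
    have hev : ∀ g : PR d, coefHom ((aeval L : P →ₐ[K] K) ∘ cgen) g = eval L (coefHom cgen g) := fun g => by
      rw [← AlgHom.coe_toRingHom, ← coefHom_comp]
      rfl
    have hker : ∀ g : PR d, g ∈ (coefPrime (algebraMap P E ∘ cgen)).asIdeal → coefHom cgen g = 0 := fun g hg => by
      have h : coefHom (algebraMap P E ∘ cgen) g = 0 := hg
      rw [← coefHom_comp] at h
      exact (map_eq_zero_iff _ (IsFractionRing.injective P E)).mp h
    have hgi : ∀ i, eval L (coefHom cgen (B.g i)) = 0 := fun i => by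
      rw [← hev]
      exact hBg ⟨i, rfl⟩
    refine ⟨B, hB, ?_⟩
    by_contra! hall
    have hz : ∀ i, coefHom cgen (B.g i) = 0 := fun i => by
      by_contra hne
      exact hall i hne (hgi i)
    apply hgen B hB
    refine ⟨?_, fun hfmem => hBf ?_⟩
    · rintro _ ⟨i, rfl⟩
      show coefHom (algebraMap P E ∘ cgen) (B.g i) = 0
      rw [← coefHom_comp, RingHom.comp_apply, hz i, map_zero]
    · rintro _ rfl
      show coefHom _ B.f = 0
      rw [hev, hker _ (hfmem rfl), map_zero]
  -- count
  let Z : (Σ B : data, Fin B.1.n) → Finset (PP m → K) := fun Bi =>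
    haveI := Fintype.ofFinite K
    if coefHom cgen (Bi.1.1.g Bi.2) = 0 then ∅ else
      Finset.univ.filter fun L => eval L (coefHom cgen (Bi.1.1.g Bi.2)) = 0
  haveI := Fintype.ofFinite K
  have hsub : (Finset.univ.filter fun L : PP m → K => ¬ GoodPlane d f L) ⊆ Finset.univ.biUnion Z := by
    intro L hL
    obtain ⟨B, hB, i, hne, h0⟩ := hbad L (Finset.mem_filter.mp hL).2
    refine Finset.mem_biUnion.mpr ⟨⟨⟨B, hB⟩, i⟩, Finset.mem_univ _, ?_⟩
    simp [Z, hne, h0]
  rw [Nat.card_eq_fintype_card (α := {L : PP m → K // ¬ GoodPlane d f L}), Fintype.card_subtype]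
  refine (Nat.mul_le_mul_right _ ((Finset.card_le_card hsub).trans Finset.card_biUnion_le)).trans ?_
  rw [Finset.sum_mul]
  calc ∑ Bi, (Z Bi).card * Nat.card K
      ≤ ∑ Bi : Σ B : data, Fin B.1.n, d * (Bi.1.1.g Bi.2).totalDegree * Nat.card K ^ Nat.card (PP m) := by
        refine Finset.sum_le_sum fun Bi _ => ?_
        by_cases h0 : coefHom cgen (Bi.1.1.g Bi.2) = 0
        · simp [Z, h0]
        refine le_trans ?_ (Nat.mul_le_mul_right _ (hdeg _))
        refine le_of_eq_of_le ?_ (card_zeros_le h0)
        simp only [Z, if_neg h0]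
        rw [Nat.card_eq_fintype_card (α := {v : PP m → K // eval v (coefHom cgen (Bi.1.1.g Bi.2)) = 0}),
          Fintype.card_subtype]
        congr 2
        exact Finset.ext fun L => by simp only [Finset.mem_filter, Finset.mem_univ, true_and]
    _ = _ := by
        rw [← Finset.sum_mul, Fintype.sum_sigma, ← Finset.sum_coe_sort data]

end Groth.L03.LWU
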