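import Groth.Agent.L03.LWU.Step

/-!
# Bertini for plane sections of a hypersurface
-/

set_option autoImplicit false
set_option linter.style.haveILetI false
universe u v

open MvPolynomial

namespace Groth.L03.LWU

/-- The parameters of the planes that are graphs over the first two coordinates. -/
abbrev PP (m : ℕ) : Type := Fin m × Fin 3

/-- The values of the coordinates on the plane with parameters `L`. -/
noncomputable def planeVals {R : Type v} [CommRing R] {m : ℕ} (L : PP m → R) :
    Fin (m + 2) → MvPolynomial (Fin 2) R :=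
  Fin.cons (X 0) (Fin.cons (X 1) fun j => C (L (j, 0)) + C (L (j, 1)) * X 0 + C (L (j, 2)) * X 1)

theorem planeVals_zero {R : Type v} [CommRing R] {m : ℕ} (L : PP m → R) : planeVals L 0 = X 0 := rfl

theorem planeVals_one {R : Type v} [CommRing R] {m : ℕ} (L : PP m → R) : planeVals L 1 = X 1 := rfl

theorem planeVals_succ {R : Type v} [CommRing R] {m : ℕ} (L : PP m → R) (j : Fin m) :
    planeVals L j.succ.succ = C (L (j, 0)) + C (L (j, 1)) * X 0 + C (L (j, 2)) * X 1 := rfl

theorem map_planeVals {R S : Type v} [CommRing R] [CommRing S] (φ : R →+* S) {m : ℕ} (L : PP m → R)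
    (i : Fin (m + 2)) : map φ (planeVals L i) = planeVals (φ ∘ L) i := by
  refine Fin.cases (by simp [planeVals_zero]) (fun i => ?_) i
  refine Fin.cases ?_ (fun j => by simp [planeVals_succ]) i
  show map φ (planeVals L 1) = planeVals (φ ∘ L) 1
  simp [planeVals_one]

theorem totalDegree_planeVals_le {R : Type v} [CommRing R] {m : ℕ} (L : PP m → R) (i : Fin (m + 2)) :
    (planeVals L i).totalDegree ≤ 1 := by
  have hX : ∀ j : Fin 2, (X j : MvPolynomial (Fin 2) R).totalDegree ≤ 1 := fun j =>
    (totalDegree_monomial_le (R := R) _ _).trans (by simp)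
  refine Fin.cases ?_ (fun i => ?_) i
  · exact hX 0
  refine Fin.cases ?_ (fun j => ?_) i
  · show (planeVals L 1).totalDegree ≤ 1
    exact hX 1
  rw [planeVals_succ]
  refine (totalDegree_add _ _).trans (max_le ((totalDegree_add _ _).trans (max_le ?_ ?_)) ?_)
  · simp
  · exact (totalDegree_mul _ _).trans (by simpa using hX 0)
  · exact (totalDegree_mul _ _).trans (by simpa using hX 1)

theorem map_aeval_planeVals {K R S : Type u} [CommRing K] [CommRing R] [CommRing S] [Algebra K R] [Algebra K S]
    (φ : R →ₐ[K] S) {m : ℕ} (L : PP m → R) (f : MvPolynomial (Fin (m + 2)) K) :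
    map φ.toRingHom (aeval (planeVals L) f) = aeval (planeVals (φ ∘ L)) f := by
  have : (map φ.toRingHom).comp (aeval (planeVals L) : MvPolynomial (Fin (m + 2)) K →ₐ[K] _).toRingHom =
      (aeval (planeVals (φ ∘ L)) : MvPolynomial (Fin (m + 2)) K →ₐ[K] _).toRingHom := by
    refine MvPolynomial.ringHom_ext (fun c => ?_) fun i => ?_
    · simp only [RingHom.comp_apply, AlgHom.toRingHom_eq_coe, RingHom.coe_coe, aeval_C]
      change map _ (C (algebraMap K R c)) = C (algebraMap K S c)
      rw [map_C, RingHom.coe_coe, φ.commutes]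
    · simp only [RingHom.comp_apply, AlgHom.toRingHom_eq_coe, RingHom.coe_coe, aeval_X]
      exact map_planeVals (φ : R →+* S) L i
  exact DFunLike.congr_fun this f

theorem exists_indep_plane : ∀ (m : ℕ) {K : Type u} [Field K] [IsAlgClosed K]
    {f : MvPolynomial (Fin (m + 2)) K}, Irreducible f →
    ∃ (Ω : Type u) (_ : Field Ω) (_ : IsAlgClosed Ω) (_ : Algebra K Ω) (L : PP m → Ω),
      AlgebraicIndependent K L ∧ Irreducible (aeval (planeVals L) f) := by
  intro m
  induction m with
  | zero =>
    intro K _ _ f hf
    refine ⟨K, inferInstance, inferInstance, inferInstance, fun p => p.1.elim0, ?_, ?_⟩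
    · haveI : IsEmpty (PP 0) := ⟨fun p => p.1.elim0⟩
      exact algebraicIndependent_empty_type_iff.mpr (algebraMap K K).injective
    · have : planeVals (fun p : PP 0 => (p.1.elim0 : K)) = X := funext fun i => by fin_cases i <;> rfl
      rw [this, aeval_X_left_apply]
      exact hf
  | succ m ih =>
    intro K _ _ f hf
    classical
    obtain ⟨Ω₁, _, _, _, b, hb, hg⟩ := step (M := m + 1) (by omega) hf
    obtain ⟨Ω₂, _, _, _, L', hL', hirr⟩ := ih hg
    letI : Algebra K Ω₂ := ((algebraMap Ω₁ Ω₂).comp (algebraMap K Ω₁)).toAlgebra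
    haveI : IsScalarTower K Ω₁ Ω₂ := IsScalarTower.of_algebraMap_eq' rfl
    let B : Option (Fin (m + 2)) → Ω₂ := algebraMap Ω₁ Ω₂ ∘ b
    let sel : Fin 3 → Option (Fin (m + 2)) := ![none, some 0, some 1]
    let pL : PP (m + 1) → MvPolynomial (PP m ⊕ Option (Fin (m + 2))) K := fun p =>
      Fin.lastCases (X (Sum.inr (sel p.2)) + ∑ j : Fin m, X (Sum.inr (some j.succ.succ)) * X (Sum.inl (j, p.2)))
        (fun j => X (Sum.inl (j, p.2))) p.1
    let fam : PP m ⊕ Option (Fin (m + 2)) → Ω₂ := Sum.elim L' B
    let L : PP (m + 1) → Ω₂ := fun p => aeval fam (pL p)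
    have hsel : ∀ c : Fin 3, sel c ∉ Set.range (fun j : Fin m => (some j.succ.succ : Option (Fin (m + 2)))) := by
      intro c ⟨j, hj⟩
      fin_cases c <;> simp [sel, Fin.ext_iff] at hj
    refine ⟨Ω₂, inferInstance, inferInstance, inferInstance, L, ?_, ?_⟩
    · -- a triangular change of parameters
      have hfam : AlgebraicIndependent K fam := hb.sumElim_comp hL'
      let back : MvPolynomial (PP m ⊕ Option (Fin (m + 2))) K →ₐ[K] MvPolynomial (PP (m + 1)) K :=
        aeval (Sum.elim (fun p => X (p.1.castSucc, p.2)) fun o =>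
          if h : ∃ c, sel c = o then X (Fin.last m, h.choose) else 0)
      have hsinj : Function.Injective sel := by
        intro a b hab
        fin_cases a <;> fin_cases b <;> simp [sel, Fin.ext_iff] at hab ⊢
      have hleft : back.comp (aeval pL) = AlgHom.id K _ := by
        ext ⟨i, c⟩ : 1
        simp only [AlgHom.comp_apply, aeval_X, AlgHom.id_apply, pL]
        refine Fin.lastCases ?_ (fun j => ?_) i
        · simp only [Fin.lastCases_last, map_add, map_sum, map_mul, back, aeval_X, Sum.elim_inr, Sum.elim_inl]
          have hc : ∃ c', sel c' = sel c := ⟨c, rfl⟩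
          rw [dif_pos hc, hsinj hc.choose_spec, Finset.sum_eq_zero, add_zero]
          intro j _
          rw [dif_neg (fun ⟨c', hc'⟩ => hsel c' ⟨j, hc'.symm⟩), zero_mul]
        · simp [back]
      have hinj : Function.Injective (aeval pL : MvPolynomial (PP (m + 1)) K →ₐ[K] _) := fun a b h => by
        have := congrArg back h
        rwa [← AlgHom.comp_apply, ← AlgHom.comp_apply, hleft] at this
      rw [algebraicIndependent_iff_injective_aeval]
      have : (aeval L : MvPolynomial (PP (m + 1)) K →ₐ[K] Ω₂) = (aeval fam).comp (aeval pL) := (comp_aeval _ _).symm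
      rw [this]
      exact (algebraicIndependent_iff_injective_aeval.mp hfam).comp hinj
    · have heq : aeval (planeVals L) f = aeval (planeVals L') (aeval (hypVals b) f) := by
        have : (aeval (planeVals L) : MvPolynomial (Fin (m + 3)) K →ₐ[K] MvPolynomial (Fin 2) Ω₂).toRingHom =
            (aeval (planeVals L') : MvPolynomial (Fin (m + 2)) Ω₁ →ₐ[Ω₁] MvPolynomial (Fin 2) Ω₂).toRingHom.comp
              (aeval (hypVals b) : MvPolynomial (Fin (m + 3)) K →ₐ[K] _).toRingHom := by
          refine MvPolynomial.ringHom_ext (fun c => ?_) fun i => ?_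
          · simp only [RingHom.comp_apply, AlgHom.toRingHom_eq_coe, RingHom.coe_coe, aeval_C]
            change C (algebraMap K Ω₂ c) = aeval (planeVals L') (C (algebraMap K Ω₁ c))
            rw [aeval_C, IsScalarTower.algebraMap_apply K Ω₁ Ω₂]
            rfl
          simp only [RingHom.comp_apply, AlgHom.toRingHom_eq_coe, RingHom.coe_coe, aeval_X]
          refine Fin.lastCases ?_ (fun i => ?_) i
          · have h1 : planeVals L (Fin.last (m + 2)) = C (L (Fin.last m, 0)) + C (L (Fin.last m, 1)) * X 0 +
                C (L (Fin.last m, 2)) * X 1 := planeVals_succ L (Fin.last m)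
            rw [h1]
            simp only [L, fam, pL, sel, hypVals, Fin.lastCases_last, map_add, map_sum, map_mul, aeval_X, aeval_C,
              Sum.elim_inl, Sum.elim_inr, Fin.sum_univ_succ (n := m + 1), Fin.sum_univ_succ (n := m), planeVals_zero,
              planeVals_succ, show (Fin.succ 0 : Fin (m + 2)) = 1 from rfl, planeVals_one, B, Function.comp_apply,
              MvPolynomial.algebraMap_apply, Matrix.cons_val_zero, Matrix.cons_val_one, Matrix.cons_val]
            simp only [mul_add, Finset.sum_add_distrib, ← mul_assoc, ← Finset.sum_mul, add_mul]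
            ring
          · simp only [hypVals, Fin.lastCases_castSucc, aeval_X]
            refine Fin.cases ?_ (fun i => ?_) i
            · rfl
            refine Fin.cases ?_ (fun j => ?_) i
            · rfl
            show planeVals L (j.castSucc).succ.succ = _
            rw [planeVals_succ, planeVals_succ]
            simp [L, fam, pL]
        exact DFunLike.congr_fun this f
      rw [heq]
      exact hirr

/-- The generic plane section of an absolutely irreducible hypersurface. -/
theorem generic_plane {k : Type u} [Field k] {m : ℕ} {f : MvPolynomial (Fin (m + 2)) k} (hf : AbsIrr f)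
    {E : Type u} [Field E] [Algebra k E] [Algebra (MvPolynomial (PP m) k) E]
    [IsScalarTower k (MvPolynomial (PP m) k) E] [IsFractionRing (MvPolynomial (PP m) k) E] :
    AbsIrr (aeval (planeVals fun p => algebraMap (MvPolynomial (PP m) k) E (X p)) f) ∧
      (aeval (planeVals fun p => algebraMap (MvPolynomial (PP m) k) E (X p)) f).totalDegree = f.totalDegree := by
  classical
  let kb := AlgebraicClosure k
  set f' := map (algebraMap k kb) f with hf'
  obtain ⟨Ω, _, _, _, L, hL, hirr⟩ := exists_indep_plane m (K := kb) hf
  letI : Algebra k Ω := ((algebraMap kb Ω).comp (algebraMap k kb)).toAlgebra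
  haveI : IsScalarTower k kb Ω := IsScalarTower.of_algebraMap_eq' rfl
  have hLk : AlgebraicIndependent k L := hL.restrictScalars (algebraMap k kb).injective
  have hinjL : Function.Injective (aeval L : MvPolynomial (PP m) k →ₐ[k] Ω) :=
    algebraicIndependent_iff_injective_aeval.mp hLk
  let ψ : E →ₐ[k] Ω := IsFractionRing.liftAlgHom hinjL
  have hψ : ∀ r, ψ (algebraMap (MvPolynomial (PP m) k) E r) = aeval L r := fun r =>
    IsFractionRing.lift_algebraMap hinjL r
  have hψL : (ψ ∘ fun p => algebraMap (MvPolynomial (PP m) k) E (X p)) = L :=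
    funext fun p => (hψ _).trans (aeval_X _ _)
  have haev : aeval (planeVals L) f' = aeval (planeVals L) f := by
    rw [hf', aeval_map_algebraMap]
  refine ⟨absIrr_of_map ψ.toRingHom ?_, ?_⟩
  · rw [map_aeval_planeVals, hψL, ← haev]
    exact hirr
  refine le_antisymm (totalDegree_aeval_le' _ (totalDegree_planeVals_le _) f) ?_
  -- specialise to a good direction
  set d := f.totalDegree
  have hf0 : f ≠ 0 := hf.irreducible.ne_zero
  have hd' : f'.totalDegree = d := totalDegree_map _ f
  have htop : homogeneousComponent d f' * X 0 ≠ 0 :=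
    mul_ne_zero (hd' ▸ homogeneousComponent_totalDegree_ne_zero
      ((map_ne_zero_iff _ (map_injective _ (algebraMap k kb).injective)).mpr hf0)) (X_ne_zero 0)
  obtain ⟨v, hv⟩ : ∃ v : Fin (m + 2) → kb, eval v (homogeneousComponent d f' * X 0) ≠ 0 := by
    by_contra! h
    exact htop (MvPolynomial.funext fun w => by rw [h w, map_zero])
  rw [map_mul, eval_X, mul_ne_zero_iff] at hv
  let c : PP m → kb := fun p => if p.2 = 1 then v p.1.succ.succ / v 0 else 0
  let β : kb := v 1 / v 0
  let sp : MvPolynomial (PP m) k →ₐ[k] kb := aeval c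
  let G : MvPolynomial (Fin 2) (MvPolynomial (PP m) k) := aeval (planeVals X) f
  have hE : map (algebraMap (MvPolynomial (PP m) k) E) G =
      aeval (planeVals fun p => algebraMap (MvPolynomial (PP m) k) E (X p)) f :=
    map_aeval_planeVals (IsScalarTower.toAlgHom k (MvPolynomial (PP m) k) E) X f
  rw [← hE, totalDegree, support_map_of_injective _ (IsFractionRing.injective (MvPolynomial (PP m) k) E),
    ← totalDegree]
  let line : MvPolynomial (Fin 2) kb →ₐ[kb] Polynomial kb :=
    aeval fun i => Polynomial.C (![v 0, v 1] i) * Polynomial.X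
  have hkey : line (map sp.toRingHom G) = aeval (fun i => Polynomial.C (v i) * Polynomial.X) f' := by
    rw [map_aeval_planeVals sp X f, show (⇑sp ∘ X) = c from funext fun p => aeval_X c p, hf',
      aeval_map_algebraMap]
    have : line.toRingHom.comp (aeval (planeVals c) : MvPolynomial (Fin (m + 2)) k →ₐ[k] _).toRingHom =
        (aeval (R := k) fun i => Polynomial.C (v i) * Polynomial.X).toRingHom := by
      refine MvPolynomial.ringHom_ext (fun a => ?_) fun i => ?_
      · simp only [RingHom.comp_apply, AlgHom.toRingHom_eq_coe, RingHom.coe_coe, aeval_C]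
        change line (C (algebraMap k kb a)) = _
        simp [line]
      · simp only [RingHom.comp_apply, AlgHom.toRingHom_eq_coe, RingHom.coe_coe, aeval_X]
        refine Fin.cases ?_ (fun i => ?_) i
        · simp [planeVals_zero, line]
        refine Fin.cases ?_ (fun j => ?_) i
        · show line (planeVals c 1) = _
          simp [planeVals_one, line]
        simp only [planeVals_succ, c, line, map_add, map_mul, aeval_C, aeval_X, Matrix.cons_val_zero,
          show (0 : Fin 3) ≠ 1 by decide, show (2 : Fin 3) ≠ 1 by decide, if_false, if_true, map_zero, zero_mul,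
          zero_add, add_zero]
        rw [← mul_assoc, Polynomial.algebraMap_eq, ← map_mul, div_mul_cancel₀ _ hv.2]
    exact DFunLike.congr_fun this f
  have h1 : (line (map sp.toRingHom G)).coeff d ≠ 0 := by
    rw [hkey, ← hd', coeff_line, hd']
    exact hv.1
  calc d ≤ (line (map sp.toRingHom G)).natDegree := Polynomial.le_natDegree_of_ne_zero h1
    _ ≤ (map sp.toRingHom G).totalDegree := natDegree_line_le _ _
    _ ≤ G.totalDegree := Finset.sup_mono (support_map_subset _ G)

end Groth.L03.LWU
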