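import Groth.Agent.L03.LWU.Poly
import Mathlib.FieldTheory.SeparableClosure
import Mathlib.FieldTheory.PurelyInseparable.Basic
import Mathlib.FieldTheory.PrimitiveElement
import Mathlib.RingTheory.Polynomial.UniqueFactorization
import Mathlib.RingTheory.Polynomial.GaussLemma

/-!
# A criterion for absolute irreducibility

If the field of functions of an irreducible hypersurface has no constants separable over the ground field other
than the obvious ones, and the equation is separable, then the hypersurface is absolutely irreducible.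
-/

set_option autoImplicit false
set_option linter.style.haveILetI false
universe u

open Polynomial

namespace Groth.L03.LWU

variable {F : Type u} [Field F] {M : Type u} [Field M] [Algebra F M]

/-- A separable element does not drop in degree over a field with no separable constants. -/
theorem natDegree_minpoly_sep {Mb : Type u} [Field Mb] [Algebra F Mb] [Algebra M Mb] [IsScalarTower F M Mb]
    [IsAlgClosed Mb] (hM : ∀ a : M, IsSeparable F a → a ∈ Set.range (algebraMap F M))
    {α : Mb} (hα : IsSeparable F α) : (minpoly F α).natDegree ≤ (minpoly M α).natDegree := by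
  have hαi : IsIntegral F α := hα.isIntegral
  set g := minpoly M α
  have hgm : g.Monic := minpoly.monic hαi.tower_top
  let S : IntermediateField F Mb := separableClosure F Mb
  have hsplit : (g.map (algebraMap M Mb)).Splits := IsAlgClosed.splits _
  have hroot : ∀ r ∈ (g.map (algebraMap M Mb)).roots, r ∈ S := fun r hr => by
    rw [mem_separableClosure_iff]
    have h1 : Polynomial.aeval r g = 0 := by
      rw [← Polynomial.eval_map_algebraMap]; exact (Polynomial.mem_roots'.mp hr).2
    have h2 : Polynomial.aeval r (minpoly F α) = 0 := by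
      obtain ⟨c, hc⟩ := minpoly.dvd_map_of_isScalarTower F M α
      rw [← Polynomial.aeval_map_algebraMap M, hc, map_mul, h1, zero_mul]
    exact hα.of_dvd (minpoly.dvd F r h2)
  have hlift : g.map (algebraMap M Mb) ∈ Polynomial.lifts (algebraMap S Mb) := by
    rw [hsplit.eq_prod_roots_of_monic (hgm.map _)]
    refine Subsemiring.multiset_prod_mem _ _ fun q hq => ?_
    obtain ⟨r, hr, rfl⟩ := Multiset.mem_map.mp hq
    exact ⟨Polynomial.X - Polynomial.C ⟨r, hroot r hr⟩, by
      rw [Polynomial.coe_mapRingHom, Polynomial.map_sub, Polynomial.map_X, Polynomial.map_C]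
      rfl⟩
  have hcoef : ∀ i, g.coeff i ∈ Set.range (algebraMap F M) := fun i => by
    refine hM _ ?_
    obtain ⟨c, hc⟩ := (Polynomial.lifts_iff_coeff_lifts _).mp hlift i
    have hs : IsSeparable F (algebraMap M Mb (g.coeff i)) := by
      rw [← Polynomial.coeff_map, ← hc]
      exact mem_separableClosure_iff.mp c.2
    rw [IsSeparable, minpoly.algebraMap_eq (algebraMap M Mb).injective] at hs
    exact hs
  obtain ⟨g', hg', hdeg, hmon⟩ :=
    Polynomial.lifts_and_natDegree_eq_and_monic ((Polynomial.lifts_iff_coeff_lifts _).mpr hcoef) hgm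
  rw [← hdeg]
  refine Polynomial.natDegree_le_natDegree (minpoly.min F α hmon ?_)
  rw [← Polynomial.aeval_map_algebraMap M, hg', minpoly.aeval]

theorem exists_coord {E : Type u} [Field E] [Algebra F E] {m : ℕ} {κ : Type*} [Fintype κ]
    (b : Module.Basis κ F E) (p : MvPolynomial (Fin m) E) :
    ∃ q : κ → MvPolynomial (Fin m) F,
      p = ∑ i, MvPolynomial.C (b i) * MvPolynomial.map (algebraMap F E) (q i) := by
  classical
  induction p using MvPolynomial.induction_on' with
  | monomial e c =>
    refine ⟨fun i => MvPolynomial.monomial e (b.repr c i), ?_⟩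
    simp only [MvPolynomial.map_monomial, MvPolynomial.C_mul_monomial, ← map_sum (MvPolynomial.monomial e)]
    congr 1
    conv_lhs => rw [← b.sum_repr c]
    exact Finset.sum_congr rfl fun i _ => by rw [Algebra.smul_def, mul_comm]
  | add p p' hp hp' =>
    obtain ⟨q, hq⟩ := hp
    obtain ⟨q', hq'⟩ := hp'
    refine ⟨q + q', ?_⟩
    simp only [Pi.add_apply, map_add, mul_add, Finset.sum_add_distrib, ← hq, ← hq']

set_option maxHeartbeats 1600000 in
/-- The criterion. -/
theorem irreducible_algClosure_of_sepClosed {m : ℕ} {G : (MvPolynomial (Fin m) F)[X]} (hG : G.Monic)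
    (hd : 0 < G.natDegree) (hsep : Polynomial.derivative G ≠ 0) (z : Fin m → M) (w : M)
    (hker : ∀ Q : (MvPolynomial (Fin m) F)[X],
      Polynomial.eval₂ (MvPolynomial.aeval z).toRingHom w Q = 0 ↔ G ∣ Q)
    (hM : ∀ a : M, IsSeparable F a → a ∈ Set.range (algebraMap F M)) :
    Irreducible (G.map (MvPolynomial.map (algebraMap F (AlgebraicClosure F)))) := by
  classical
  let Ω := AlgebraicClosure F
  let Mb := AlgebraicClosure M
  let ι : Ω →ₐ[F] Mb := IsAlgClosed.lift
  let μ : MvPolynomial (Fin m) F →+* MvPolynomial (Fin m) Ω := MvPolynomial.map (algebraMap F Ω)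
  have hμ : Function.Injective μ := MvPolynomial.map_injective _ (algebraMap F Ω).injective
  let jM : M →+* Mb := algebraMap M Mb
  -- no relation of small degree with coefficients in a finite separable extension
  have hsmall : ∀ (E : IntermediateField F Ω), FiniteDimensional F E → Algebra.IsSeparable F E →
      ∀ P : (MvPolynomial (Fin m) E)[X], P.natDegree < G.natDegree →
      Polynomial.eval₂ (MvPolynomial.eval₂Hom (ι.toRingHom.comp (algebraMap E Ω)) (jM ∘ z)) (jM w) P = 0 →
      P = 0 := by
    intro E hfd hsepE P hdeg hP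
    let pb := Field.powerBasisOfFiniteOfSeparable F E
    let α : Mb := ι (pb.gen : E).1
    have hαdeg : (minpoly F α).natDegree = pb.dim := by
      rw [← pb.natDegree_minpoly]
      congr 1
      exact minpoly.algHom_eq (ι.comp E.val) (ι.comp E.val).injective pb.gen
    have hαsep : IsSeparable F α := by
      rw [IsSeparable, show α = (ι.comp E.val) pb.gen from rfl,
        minpoly.algHom_eq (ι.comp E.val) (ι.comp E.val).injective pb.gen]
      exact Algebra.IsSeparable.isSeparable F pb.gen
    have hli : LinearIndependent M fun i : Fin pb.dim => α ^ (i : ℕ) := by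
      have h1 := linearIndependent_pow (K := M) α
      have h2 : pb.dim ≤ (minpoly M α).natDegree := hαdeg ▸ natDegree_minpoly_sep hM hαsep
      exact h1.comp (Fin.castLE h2) (Fin.castLE_injective h2)
    choose q hq using fun j => exists_coord pb.basis (P.coeff j)
    let Q : Fin pb.dim → (MvPolynomial (Fin m) F)[X] := fun i =>
      ∑ j ∈ Finset.range (P.natDegree + 1), Polynomial.monomial j (q j i)
    have hQdeg : ∀ i, (Q i).natDegree ≤ P.natDegree := fun i =>
      Polynomial.natDegree_sum_le_of_forall_le _ _ fun j hj =>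
        (Polynomial.natDegree_monomial_le _).trans (Finset.mem_range_succ_iff.mp hj)
    have hPeq : P = ∑ i, Polynomial.C (MvPolynomial.C (pb.basis i)) *
        (Q i).map (MvPolynomial.map (algebraMap F E)) := by
      conv_lhs => rw [P.as_sum_range]
      simp only [Q, Polynomial.map_sum, Polynomial.map_monomial, Finset.mul_sum, Polynomial.C_mul_monomial]
      rw [Finset.sum_comm]
      exact Finset.sum_congr rfl fun j _ => by rw [← map_sum (Polynomial.monomial j), ← hq]
    have hsum : ∑ i : Fin pb.dim, (Polynomial.eval₂ (MvPolynomial.aeval z).toRingHom w (Q i)) • α ^ (i : ℕ) = 0 := by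
      rw [← hP]
      conv_rhs => rw [hPeq, Polynomial.eval₂_finsetSum]
      refine Finset.sum_congr rfl fun i _ => ?_
      rw [Polynomial.eval₂_mul, Polynomial.eval₂_C, Polynomial.eval₂_map, MvPolynomial.eval₂Hom_C,
        Algebra.smul_def, mul_comm]
      congr 1
      · simp only [α, RingHom.comp_apply, pb.coe_basis]
        rw [← map_pow]; rfl
      · show jM _ = _
        rw [Polynomial.hom_eval₂]
        congr 1
        refine MvPolynomial.ringHom_ext (fun c => ?_) fun i => ?_
        · simp only [RingHom.comp_apply, MvPolynomial.map_C, MvPolynomial.eval₂Hom_C, AlgHom.toRingHom_eq_coe,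
            RingHom.coe_coe, MvPolynomial.aeval_C]
          change algebraMap M Mb (algebraMap F M c) = ι (algebraMap E Ω (algebraMap F E c))
          rw [← IsScalarTower.algebraMap_apply, ← IsScalarTower.algebraMap_apply, ι.commutes]
        · simp [jM]
    have hQ0 : ∀ i, Q i = 0 := fun i => by
      have h := (hker (Q i)).mp (Fintype.linearIndependent_iff.mp hli _ hsum i)
      by_contra hne
      exact absurd ((Polynomial.natDegree_le_of_dvd h hne).trans (hQdeg i)) (not_le.mpr hdeg)
    rw [hPeq]
    simp [hQ0]
  have hΩG : (G.map μ).Monic := hG.map _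
  have hΩdeg : (G.map μ).natDegree = G.natDegree := hG.natDegree_map μ
  rw [hΩG.irreducible_iff_natDegree]
  refine ⟨fun h1 => by rw [h1, Polynomial.natDegree_one] at hΩdeg; omega, fun G₁ G₂ hG₁ hG₂ hmul => ?_⟩
  by_contra! hne
  have hdsum : G₁.natDegree + G₂.natDegree = G.natDegree := by
    rw [← hΩdeg, ← hG₁.natDegree_mul hG₂, hmul]
  -- a power of a factor is defined over a finite separable extension
  obtain ⟨p, hp⟩ := ExpChar.exists Ω
  let Es := separableClosure F Ω
  haveI : ExpChar Es p := RingHom.expChar (algebraMap Es Ω) (algebraMap Es Ω).injective p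
  haveI : IsPurelyInseparable Es Ω := separableClosure.isPurelyInseparable F Ω
  let cs : Finset Ω := G₁.support.biUnion fun j => (G₁.coeff j).support.image fun e => (G₁.coeff j).coeff e
  choose N hN using fun c : Ω => IsPurelyInseparable.pow_mem Es p c
  let n := cs.sup N
  have hcs : ∀ c ∈ cs, c ^ p ^ n ∈ Es := fun c hc => by
    obtain ⟨r, hr⟩ := Nat.exists_eq_add_of_le (Finset.le_sup (f := N) hc)
    obtain ⟨b, hb⟩ := hN c
    rw [show n = N c + r from hr, pow_add, pow_mul, ← hb]
    exact pow_mem b.2 _
  let cs' : Finset Ω := cs.image fun c => c ^ p ^ n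
  let E : IntermediateField F Ω := IntermediateField.adjoin F (cs' : Set Ω)
  have hcs' : ∀ c ∈ (cs' : Set Ω), c ∈ Es := fun c hc => by
    obtain ⟨a, ha, rfl⟩ := Finset.mem_image.mp hc
    exact hcs a ha
  haveI hfd : FiniteDimensional F E := IntermediateField.finiteDimensional_adjoin fun c _ =>
    (Algebra.IsIntegral.isIntegral c)
  haveI hsepE : Algebra.IsSeparable F E :=
    (IntermediateField.isSeparable_adjoin_iff_isSeparable F Ω).mpr fun c hc => mem_separableClosure_iff.mp (hcs' c hc)
  let κ : MvPolynomial (Fin m) E →+* MvPolynomial (Fin m) Ω := MvPolynomial.map (algebraMap E Ω)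
  have hκ : Function.Injective κ := MvPolynomial.map_injective _ (algebraMap E Ω).injective
  haveI : ExpChar (MvPolynomial (Fin m) Ω) p := inferInstance
  have hlift : G₁ ^ p ^ n ∈ Polynomial.lifts κ := by
    have hrw : G₁ ^ p ^ n = (∑ j ∈ G₁.support, Polynomial.monomial j (G₁.coeff j)) ^ p ^ n := by
      rw [← G₁.as_sum_support]
    rw [hrw]
    rw [sum_pow_char_pow]
    refine sum_mem fun j hj => ?_
    rw [Polynomial.monomial_pow]
    refine Polynomial.monomial_mem_lifts _ ?_
    conv => rw [(G₁.coeff j).as_sum, sum_pow_char_pow]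
    refine Subring.sum_mem κ.range (fun e he => ?_)
    rw [MvPolynomial.monomial_pow]
    refine ⟨MvPolynomial.monomial (p ^ n • e) ⟨(G₁.coeff j).coeff e ^ p ^ n, IntermediateField.subset_adjoin F _ ?_⟩,
      by simp only [κ, MvPolynomial.map_monomial]; rfl⟩
    exact Finset.mem_coe.mpr (Finset.mem_image_of_mem _ (Finset.mem_biUnion.mpr
      ⟨j, hj, Finset.mem_image_of_mem _ he⟩))
  obtain ⟨P, hPmap, -, hPm⟩ := Polynomial.lifts_and_degree_eq_and_monic hlift (hG₁.pow _)
  let μE : MvPolynomial (Fin m) F →+* MvPolynomial (Fin m) E := MvPolynomial.map (algebraMap F E)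
  have hκμ : κ.comp μE = μ := MvPolynomial.ringHom_ext (by intro c; simp [κ, μE, μ, ← IsScalarTower.algebraMap_apply])
    (by intro i; simp [κ, μE, μ])
  set GE := G.map μE with hGE
  have hGEm : GE.Monic := hG.map _
  have hGEdeg : GE.natDegree = G.natDegree := hG.natDegree_map μE
  have hGEmap : GE.map κ = G.map μ := by rw [hGE, Polynomial.map_map, hκμ]
  have hprime : Prime GE := by
    refine Irreducible.prime (hGEm.irreducible_iff_natDegree.mpr
      ⟨fun h1 => by rw [h1, Polynomial.natDegree_one] at hGEdeg; omega, fun A B hA hB hAB => ?_⟩)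
    by_contra! h0
    have hsumdeg : A.natDegree + B.natDegree = G.natDegree := by rw [← hGEdeg, ← hA.natDegree_mul hB, hAB]
    set e := Polynomial.eval₂RingHom (MvPolynomial.eval₂Hom (ι.toRingHom.comp (algebraMap E Ω)) (jM ∘ z)) (jM w)
    have hGE0 : e GE = 0 := by
      have h := congrArg jM ((hker G).mpr dvd_rfl)
      rw [Polynomial.hom_eval₂, map_zero] at h
      rw [← h, hGE]
      show Polynomial.eval₂ _ _ _ = _
      rw [Polynomial.eval₂_map]
      congr 1
      refine MvPolynomial.ringHom_ext (fun c => ?_) fun i => ?_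
      · simp only [μE, RingHom.comp_apply, MvPolynomial.map_C, MvPolynomial.eval₂Hom_C, AlgHom.toRingHom_eq_coe,
          RingHom.coe_coe, MvPolynomial.aeval_C]
        change ι (algebraMap E Ω (algebraMap F E c)) = algebraMap M Mb (algebraMap F M c)
        rw [← IsScalarTower.algebraMap_apply, ← IsScalarTower.algebraMap_apply, ι.commutes]
      · simp [μE, jM]
    rw [← hAB, map_mul] at hGE0
    rcases mul_eq_zero.mp hGE0 with h | h
    · exact hA.ne_zero (hsmall E hfd hsepE A (by omega) h)
    · exact hB.ne_zero (hsmall E hfd hsepE B (by omega) h)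
  have hdvd : P ∣ GE ^ p ^ n := by
    rw [← Polynomial.map_dvd_map κ hκ hPm, Polynomial.map_pow, hGEmap, hPmap]
    exact pow_dvd_pow_of_dvd ⟨G₂, hmul.symm⟩ _
  obtain ⟨a, -, ha⟩ := (dvd_prime_pow hprime (p ^ n)).mp hdvd
  have hPa : P = GE ^ a := Polynomial.eq_of_monic_of_associated hPm (hGEm.pow a) ha
  have heq : G₁ ^ p ^ n = (G.map μ) ^ a := by rw [← hPmap, hPa, Polynomial.map_pow, hGEmap]
  -- descend along the Frobenius
  have base : ∀ a, G₁ = (G.map μ) ^ a → False := fun a h => by
    have h1 : G₁.natDegree = a * G.natDegree := by rw [h, Polynomial.natDegree_pow, hΩdeg]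
    rcases Nat.eq_zero_or_pos a with rfl | ha0
    · exact hne.1 (by simpa using h1)
    · have := Nat.le_mul_of_pos_left G.natDegree ha0
      have := hne.2
      omega
  clear hlift hPmap hdvd ha hPa hκμ hprime hGEmap hGEdeg hGEm hGE hcs hcs' hfd hsepE hκ hPm P GE κ μE E cs'
  revert heq
  clear_value n
  induction n generalizing a with
  | zero => intro h; exact base a (by simpa using h)
  | succ n ih =>
    intro h
    rcases hp with _ | ⟨hprimep⟩
    · exact base a (by simpa using h)
    have hp0 : (p : (MvPolynomial (Fin m) Ω)[X]) = 0 := CharP.cast_eq_zero _ p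
    have hder : Polynomial.derivative ((G.map μ) ^ a) = 0 := by
      rw [← h, Polynomial.derivative_pow, pow_succ', Nat.cast_mul, map_mul]
      rw [show Polynomial.C (p : MvPolynomial (Fin m) Ω) = 0 by rw [← hp0]; simp, zero_mul, zero_mul, zero_mul]
    have hGd : Polynomial.derivative (G.map μ) ≠ 0 := by
      rw [Polynomial.derivative_map]
      exact (Polynomial.map_ne_zero_iff hμ).mpr hsep
    have hpa : p ∣ a := by
      rw [Polynomial.derivative_pow, mul_eq_zero, mul_eq_zero] at hder
      rcases hder with (h0 | h0) | h0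
      · rw [Polynomial.C_eq_zero, CharP.cast_eq_zero_iff (MvPolynomial (Fin m) Ω) p] at h0
        exact h0
      · exact absurd (pow_eq_zero_iff'.mp h0).1 hΩG.ne_zero
      · exact absurd h0 hGd
    obtain ⟨a', rfl⟩ := hpa
    refine ih a' ?_
    refine frobenius_inj (MvPolynomial (Fin m) Ω)[X] p ?_
    simp only [frobenius_def, ← pow_mul, ← pow_succ]
    rw [h, mul_comm]

end Groth.L03.LWU
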