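import Mathlib.RingTheory.Polynomial.Resultant.Basic
import Mathlib.Algebra.MvPolynomial.Degrees
import Mathlib.RingTheory.Polynomial.GaussLemma
import Mathlib.FieldTheory.Separable

/-!
# The resultant of a monic polynomial and its derivative
-/

set_option autoImplicit false
set_option linter.style.haveILetI false
universe u

open Polynomial

namespace Groth.L03.LWU

/-- A function bounded on the coefficients is bounded on the resultant. -/
theorem resultant_measure_le {R : Type*} [CommRing R] (μ : R → ℕ) (h0 : μ 0 = 0) (h1 : μ 1 = 0)
    (hneg : ∀ a, μ (-a) = μ a) (hadd : ∀ a b, μ (a + b) ≤ max (μ a) (μ b))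
    (hmul : ∀ a b, μ (a * b) ≤ μ a + μ b) {f g : R[X]} {c : ℕ} (hf : ∀ i, μ (f.coeff i) ≤ c)
    (hg : ∀ i, μ (g.coeff i) ≤ c) (m n : ℕ) : μ (resultant f g m n) ≤ (m + n) * c := by
  classical
  have hentry : ∀ i j, μ (sylvester f g m n i j) ≤ c := fun i j => by
    induction j using Fin.addCases with
    | left j =>
      simp only [sylvester, Matrix.of_apply, Fin.addCases_left]
      split_ifs
      · exact hg _
      · rw [h0]; exact Nat.zero_le _
    | right j =>
      simp only [sylvester, Matrix.of_apply, Fin.addCases_right]
      split_ifs
      · exact hf _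
      · rw [h0]; exact Nat.zero_le _
  rw [resultant, Matrix.det_apply]
  refine Finset.sum_induction _ (fun a => μ a ≤ (m + n) * c) (fun a b ha hb => (hadd a b).trans (max_le ha hb))
    (by rw [h0]; exact Nat.zero_le _) fun σ _ => ?_
  have hprod : ∀ s : Finset (Fin (m + n)), μ (∏ i ∈ s, sylvester f g m n (σ i) i) ≤ s.card * c := fun s => by
    induction s using Finset.induction with
    | empty => simp [h1]
    | insert a s ha ih =>
      rw [Finset.prod_insert ha, Finset.card_insert_of_notMem ha]
      refine (hmul _ _).trans ((add_le_add (hentry _ _) ih).trans_eq ?_)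
      ring
  have hs := hprod Finset.univ
  rw [Finset.card_univ, Fintype.card_fin] at hs
  rcases Int.units_eq_one_or (Equiv.Perm.sign σ) with h | h <;> rw [h]
  · rwa [one_smul]
  · rwa [Units.neg_smul, one_smul, hneg]

variable {R : Type u} [CommRing R] [IsDomain R] [IsIntegrallyClosed R]

/-- The resultant with the derivative of a monic irreducible separable polynomial does not vanish. -/
theorem resultant_derivative_ne_zero {g : R[X]} (hg : g.Monic) (hirr : Irreducible g)
    (hsep : derivative g ≠ 0) : resultant g (derivative g) ≠ 0 := by
  intro h
  let K := FractionRing R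
  let φ := algebraMap R K
  have hφ : Function.Injective φ := IsFractionRing.injective R K
  have hirrK : Irreducible (g.map φ) := hg.irreducible_iff_irreducible_map_fraction_map.mp hirr
  have hsepK : (g.map φ).Separable := by
    rw [separable_iff_derivative_ne_zero hirrK, derivative_map]
    exact (Polynomial.map_ne_zero_iff hφ).mpr hsep
  have h2 := resultant_ne_zero _ _ ((separable_def _).mp hsepK)
  rw [derivative_map, resultant_map_map, natDegree_map_eq_of_injective hφ, natDegree_map_eq_of_injective hφ] at h2
  exact h2 (by rw [h, map_zero])

omit [IsDomain R] [IsIntegrallyClosed R] in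
/-- The resultant is in the ideal of the polynomial and its derivative. -/
theorem exists_bezout_derivative {g : R[X]} (hd : 0 < g.natDegree) :
    ∃ a b : R[X], g * a + derivative g * b = C (resultant g (derivative g)) := by
  obtain ⟨p, q, -, -, h⟩ := exists_mul_add_mul_eq_C_resultant (m := g.natDegree)
    (n := (derivative g).natDegree) g (derivative g) le_rfl le_rfl (Or.inl hd.ne')
  exact ⟨p, q, h⟩

end Groth.L03.LWU
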