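import Groth.Agent.L03.LWU.Poly
import Mathlib.Algebra.Polynomial.AlgebraMap
import Mathlib.Algebra.MvPolynomial.PDeriv
import Mathlib.Algebra.Polynomial.Derivative
import Mathlib.Algebra.Polynomial.Roots

/-!
# Coordinates in which a plane curve is monic and separable
-/

set_option autoImplicit false
set_option linter.style.haveILetI false
universe u

open Polynomial

namespace Groth.L03.LWU

variable {K : Type u} [Field K]

/-- Substitution of `x = u s + v y`. -/
noncomputable def toTower (u v : Fin 2 → K) : MvPolynomial (Fin 2) K →ₐ[K] K[X][X] :=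
  MvPolynomial.aeval fun i => C (C (u i) * X) + C (C (v i)) * X

theorem eval_toTower (u v : Fin 2 → K) (f : MvPolynomial (Fin 2) K) (s y : K) :
    ((toTower u v f).eval (C y)).eval s = MvPolynomial.eval (fun i => u i * s + v i * y) f := by
  have : (evalRingHom s).comp ((evalRingHom (C y)).comp (toTower u v).toRingHom) =
      MvPolynomial.eval (fun i => u i * s + v i * y) := by
    refine MvPolynomial.ringHom_ext (fun c => ?_) fun i => ?_
    · simp [toTower]
    · simp [toTower]
  exact DFunLike.congr_fun this f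

theorem map_toTower {K' : Type u} [Field K'] (φ : K →+* K') (u v : Fin 2 → K) (f : MvPolynomial (Fin 2) K) :
    (toTower u v f).map (mapRingHom φ) = toTower (φ ∘ u) (φ ∘ v) (MvPolynomial.map φ f) := by
  have : (mapRingHom (mapRingHom φ)).comp (toTower u v).toRingHom =
      (toTower (φ ∘ u) (φ ∘ v)).toRingHom.comp (MvPolynomial.map φ) := by
    refine MvPolynomial.ringHom_ext (fun c => ?_) fun i => ?_
    · simp [toTower]
    · simp [toTower]
  exact DFunLike.congr_fun this f

theorem eval₂_toTower_symm (u v : Fin 2 → K) (hdet : u 0 * v 1 - u 1 * v 0 ≠ 0) :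
    ∃ e : MvPolynomial (Fin 2) K ≃+* K[X][X], ∀ f, e f = toTower u v f := by
  classical
  set Δ := u 0 * v 1 - u 1 * v 0 with hΔ
  let S : MvPolynomial (Fin 2) K :=
    MvPolynomial.C (v 1 / Δ) * MvPolynomial.X 0 - MvPolynomial.C (v 0 / Δ) * MvPolynomial.X 1
  let Y : MvPolynomial (Fin 2) K :=
    MvPolynomial.C (u 0 / Δ) * MvPolynomial.X 1 - MvPolynomial.C (u 1 / Δ) * MvPolynomial.X 0
  let back : K[X][X] →+* MvPolynomial (Fin 2) K :=
    eval₂RingHom (eval₂RingHom MvPolynomial.C S) Y
  refine ⟨RingEquiv.ofRingHom (toTower u v).toRingHom back ?_ ?_, fun f => rfl⟩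
  · refine Polynomial.ringHom_ext' (Polynomial.ringHom_ext (fun c => by simp [toTower, back]) ?_) ?_
    · simp only [toTower, back, RingHom.comp_apply, AlgHom.toRingHom_eq_coe, RingHom.coe_coe, coe_eval₂RingHom,
        eval₂_C, eval₂_X, RingHom.id_apply, S, map_sub, map_mul, MvPolynomial.aeval_C, MvPolynomial.aeval_X]
      simp only [show ∀ a : K, algebraMap K K[X][X] a = C (C a) from fun a => rfl]
      have h1 : v 1 / Δ * u 0 - v 0 / Δ * u 1 = 1 := by
        rw [div_mul_eq_mul_div, div_mul_eq_mul_div, ← sub_div, div_eq_one_iff_eq hdet, hΔ]; ring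
      have h2 : v 1 / Δ * v 0 - v 0 / Δ * v 1 = 0 := by ring
      have e1 := (congrArg (fun a : K => (C (C a) : K[X][X])) h1)
      have e2 := (congrArg (fun a : K => (C (C a) : K[X][X])) h2)
      simp only [map_sub, map_mul, map_one, map_zero] at e1 e2
      linear_combination (C (X : K[X]) : K[X][X]) * e1 + (X : K[X][X]) * e2
    · simp only [toTower, back, RingHom.comp_apply, AlgHom.toRingHom_eq_coe, RingHom.coe_coe, coe_eval₂RingHom,
        eval₂_X, RingHom.id_apply, Y, map_sub, map_mul, MvPolynomial.aeval_C, MvPolynomial.aeval_X]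
      simp only [show ∀ a : K, algebraMap K K[X][X] a = C (C a) from fun a => rfl]
      have h1 : u 0 / Δ * v 1 - u 1 / Δ * v 0 = 1 := by
        rw [div_mul_eq_mul_div, div_mul_eq_mul_div, ← sub_div, div_eq_one_iff_eq hdet, hΔ]
      have h2 : u 0 / Δ * u 1 - u 1 / Δ * u 0 = 0 := by ring
      have e1 := (congrArg (fun a : K => (C (C a) : K[X][X])) h1)
      have e2 := (congrArg (fun a : K => (C (C a) : K[X][X])) h2)
      simp only [map_sub, map_mul, map_one, map_zero] at e1 e2
      linear_combination (X : K[X][X]) * e1 + (C (X : K[X]) : K[X][X]) * e2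
  · refine MvPolynomial.ringHom_ext (fun c => by simp [toTower, back]) fun i => ?_
    simp only [toTower, back, RingHom.comp_apply, AlgHom.toRingHom_eq_coe, RingHom.coe_coe, MvPolynomial.aeval_X,
      coe_eval₂RingHom, eval₂_add, eval₂_mul, eval₂_C, eval₂_X, RingHom.id_apply, S, Y]
    have key : ∀ (a b c e : K), MvPolynomial.C a * (MvPolynomial.C b * MvPolynomial.X 0 -
        MvPolynomial.C c * MvPolynomial.X 1 : MvPolynomial (Fin 2) K) = MvPolynomial.C (a * b) * MvPolynomial.X 0 -
          MvPolynomial.C (a * c) * MvPolynomial.X 1 := fun a b c e => by simp only [map_mul]; ring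
    fin_cases i
    · simp only [Fin.zero_eta, key _ _ _ (0 : K)]
      rw [show MvPolynomial.C (v 0) * (MvPolynomial.C (u 0 / Δ) * MvPolynomial.X 1 -
          MvPolynomial.C (u 1 / Δ) * MvPolynomial.X 0 : MvPolynomial (Fin 2) K) =
          MvPolynomial.C (v 0 * (u 0 / Δ)) * MvPolynomial.X 1 - MvPolynomial.C (v 0 * (u 1 / Δ)) * MvPolynomial.X 0 by
        simp only [map_mul]; ring]
      have h1 : u 0 * (v 1 / Δ) - v 0 * (u 1 / Δ) = 1 := by
        rw [← mul_div_assoc, ← mul_div_assoc, ← sub_div, div_eq_one_iff_eq hdet, hΔ]; ring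
      have h2 : v 0 * (u 0 / Δ) - u 0 * (v 0 / Δ) = 0 := by ring
      have e1 := congrArg (MvPolynomial.C (σ := Fin 2)) h1
      have e2 := congrArg (MvPolynomial.C (σ := Fin 2)) h2
      simp only [map_sub, map_mul, map_one, map_zero] at e1 e2 ⊢
      linear_combination (MvPolynomial.X 0 : MvPolynomial (Fin 2) K) * e1 +
        (MvPolynomial.X 1 : MvPolynomial (Fin 2) K) * e2
    · simp only [Fin.mk_one, key _ _ _ (0 : K)]
      rw [show MvPolynomial.C (v 1) * (MvPolynomial.C (u 0 / Δ) * MvPolynomial.X 1 -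
          MvPolynomial.C (u 1 / Δ) * MvPolynomial.X 0 : MvPolynomial (Fin 2) K) =
          MvPolynomial.C (v 1 * (u 0 / Δ)) * MvPolynomial.X 1 - MvPolynomial.C (v 1 * (u 1 / Δ)) * MvPolynomial.X 0 by
        simp only [map_mul]; ring]
      have h1 : v 1 * (u 0 / Δ) - u 1 * (v 0 / Δ) = 1 := by
        rw [← mul_div_assoc, ← mul_div_assoc, ← sub_div, div_eq_one_iff_eq hdet, hΔ]; ring
      have h2 : u 1 * (v 1 / Δ) - v 1 * (u 1 / Δ) = 0 := by ring
      have e1 := congrArg (MvPolynomial.C (σ := Fin 2)) h1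
      have e2 := congrArg (MvPolynomial.C (σ := Fin 2)) h2
      simp only [map_sub, map_mul, map_one, map_zero] at e1 e2 ⊢
      linear_combination (MvPolynomial.X 1 : MvPolynomial (Fin 2) K) * e1 +
        (MvPolynomial.X 0 : MvPolynomial (Fin 2) K) * e2

theorem toTower_injective {u v : Fin 2 → K} (hdet : u 0 * v 1 - u 1 * v 0 ≠ 0) :
    Function.Injective (toTower u v) := by
  obtain ⟨e, he⟩ := eval₂_toTower_symm u v hdet
  intro a b h
  exact e.injective (by rw [he, he, h])

/-- Total degree at most `n` in the tower. -/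
def DegLE (n : ℕ) (P : K[X][X]) : Prop := ∀ i, P.coeff i ≠ 0 → (P.coeff i).natDegree + i ≤ n

theorem DegLE.mul {n n' : ℕ} {P P' : K[X][X]} (h : DegLE n P) (h' : DegLE n' P') : DegLE (n + n') (P * P') := by
  intro i hi
  rw [coeff_mul] at hi ⊢
  have hterm : ∀ x ∈ Finset.antidiagonal i, P.coeff x.1 * P'.coeff x.2 ≠ 0 →
      (P.coeff x.1 * P'.coeff x.2).natDegree + i ≤ n + n' := fun x hx hne => by
    rw [natDegree_mul (left_ne_zero_of_mul hne) (right_ne_zero_of_mul hne), ← Finset.mem_antidiagonal.mp hx]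
    have := h x.1 (left_ne_zero_of_mul hne)
    have := h' x.2 (right_ne_zero_of_mul hne)
    omega
  obtain ⟨x, hx, hne⟩ := Finset.exists_ne_zero_of_sum_ne_zero hi
  have hin : i ≤ n + n' := by have := hterm x hx hne; omega
  have := natDegree_sum_le_of_forall_le (Finset.antidiagonal i) (fun x => P.coeff x.1 * P'.coeff x.2)
    (n := n + n' - i) fun x hx => by
      by_cases hne : P.coeff x.1 * P'.coeff x.2 = 0
      · simp [hne]
      · have := hterm x hx hne; omega
  omega

theorem DegLE.add {n : ℕ} {P P' : K[X][X]} (h : DegLE n P) (h' : DegLE n P') : DegLE n (P + P') := by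
  intro i hi
  rw [coeff_add] at hi ⊢
  rcases eq_or_ne (P.coeff i) 0 with h0 | h0
  · rw [h0, zero_add] at hi ⊢; exact h' i hi
  rcases eq_or_ne (P'.coeff i) 0 with h1 | h1
  · rw [h1, add_zero] at hi ⊢; exact h i hi
  have := h i h0; have := h' i h1; have := natDegree_add_le (P.coeff i) (P'.coeff i)
  omega

theorem DegLE.natDegree_le {n : ℕ} {P : K[X][X]} (h : DegLE n P) : P.natDegree ≤ n := by
  refine natDegree_le_iff_coeff_eq_zero.mpr fun i hi => ?_
  by_contra hne
  have := h i hne
  omega

theorem DegLE.mono {n n' : ℕ} {P : K[X][X]} (h : DegLE n P) (hle : n ≤ n') : DegLE n' P :=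
  fun i hi => (h i hi).trans hle

theorem degLE_const (a : K) : DegLE 0 (C (C a) : K[X][X]) := by
  intro i hi
  rw [coeff_C] at hi ⊢
  split_ifs at hi ⊢ with h
  · simp [h]
  · exact absurd rfl hi

theorem degLE_lin (a b : K) : DegLE 1 (C (C a * X) + C (C b) * X : K[X][X]) := by
  intro i hi
  match i with
  | 0 => simpa using (natDegree_C_mul_le a (X : K[X])).trans natDegree_X_le
  | 1 => simp
  | i + 2 => simp at hi

theorem degLE_pow {n : ℕ} {P : K[X][X]} (h : DegLE n P) : ∀ e, DegLE (e * n) (P ^ e)
  | 0 => by simpa using degLE_const (1 : K)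
  | e + 1 => by
    rw [pow_succ, add_mul, one_mul]
    exact (degLE_pow h e).mul h

theorem degLE_toTower (u v : Fin 2 → K) (f : MvPolynomial (Fin 2) K) :
    DegLE f.totalDegree (toTower u v f) := by
  classical
  conv => arg 2; rw [f.as_sum, map_sum]
  refine Finset.sum_induction _ (DegLE f.totalDegree) (fun _ _ => DegLE.add) (fun i hi => by simp at hi)
    fun e he => ?_
  have hdeg : e 0 + e 1 ≤ f.totalDegree := by
    have := MvPolynomial.le_totalDegree he
    rwa [Finsupp.sum_fintype _ _ (fun _ => rfl), Fin.sum_univ_two] at this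
  rw [toTower, MvPolynomial.aeval_monomial, Finsupp.prod_fintype _ _ (fun _ => by simp), Fin.prod_univ_two]
  have := (degLE_const (f.coeff e)).mul
    ((degLE_pow (degLE_lin (u 0) (v 0)) (e 0)).mul (degLE_pow (degLE_lin (u 1) (v 1)) (e 1)))
  exact this.mono (by omega)

/-- The coefficient of the top power. -/
theorem coeff_toTower (u v : Fin 2 → K) (f : MvPolynomial (Fin 2) K) :
    (toTower u v f).coeff f.totalDegree = C (MvPolynomial.eval v (MvPolynomial.homogeneousComponent f.totalDegree f)) := by
  classical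
  set d := f.totalDegree
  rw [MvPolynomial.homogeneousComponent_apply]
  conv_lhs => rw [f.as_sum, map_sum, finsetSum_coeff]
  rw [map_sum, map_sum, Finset.sum_filter]
  refine Finset.sum_congr rfl fun e he => ?_
  have hd : e.degree = e 0 + e 1 := by rw [Finsupp.degree_eq_sum, Fin.sum_univ_two]
  have hle : e 0 + e 1 ≤ d := by
    have := MvPolynomial.le_totalDegree he
    rwa [Finsupp.sum_fintype _ _ (fun _ => rfl), Fin.sum_univ_two] at this
  rw [toTower, MvPolynomial.aeval_monomial, Finsupp.prod_fintype _ _ (fun _ => by simp), Fin.prod_univ_two]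
  have hnd : ∀ i, (C (C (u i) * X) + C (C (v i)) * X : K[X][X]).natDegree ≤ 1 := fun i => (degLE_lin _ _).natDegree_le
  have hcoef : ((C (C (u 0) * X) + C (C (v 0)) * X : K[X][X]) ^ e 0 *
      (C (C (u 1) * X) + C (C (v 1)) * X) ^ e 1).coeff (e 0 + e 1) = C (v 0 ^ e 0 * v 1 ^ e 1) := by
    rw [coeff_mul_add_eq_of_natDegree_le ((natDegree_pow_le).trans (by simpa using Nat.mul_le_mul_left (e 0) (hnd 0)))
      ((natDegree_pow_le).trans (by simpa using Nat.mul_le_mul_left (e 1) (hnd 1)))]
    have h1 : ∀ i k, ((C (C (u i) * X) + C (C (v i)) * X : K[X][X]) ^ k).coeff k = C (v i) ^ k := fun i k => by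
      have := coeff_pow_of_natDegree_le (m := k) (hnd i)
      rw [mul_one] at this
      rw [this]; simp
    rw [h1, h1, map_mul, map_pow, map_pow]
  rw [show algebraMap K K[X][X] (f.coeff e) = C (C (f.coeff e)) from rfl, coeff_C_mul]
  split_ifs with h
  · rw [hd] at h
    rw [← h, hcoef, MvPolynomial.eval_monomial, Finsupp.prod_fintype _ _ (fun _ => by simp), Fin.prod_univ_two]
    simp only [map_mul]
  · rw [hd] at h
    rw [coeff_eq_zero_of_natDegree_lt, mul_zero]
    refine lt_of_le_of_lt (natDegree_mul_le.trans (add_le_add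
      (natDegree_pow_le.trans (Nat.mul_le_mul_left _ (hnd 0)))
      (natDegree_pow_le.trans (Nat.mul_le_mul_left _ (hnd 1))))) ?_
    omega

/-- The derivative is a directional derivative. -/
theorem derivative_toTower (u v : Fin 2 → K) (f : MvPolynomial (Fin 2) K) :
    derivative (toTower u v f) =
      toTower u v (∑ i, MvPolynomial.C (v i) * MvPolynomial.pderiv i f) := by
  induction f using MvPolynomial.induction_on with
  | C a => simp [toTower, show algebraMap K K[X][X] a = C (C a) from rfl]
  | add p q hp hq => simp only [map_add, mul_add, Finset.sum_add_distrib, hp, hq]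
  | mul_X p j hp =>
    have hd : derivative (toTower u v (MvPolynomial.X j)) = C (C (v j)) := by simp [toTower]
    rw [map_mul, derivative_mul, hp, hd]
    simp only [MvPolynomial.pderiv_mul, mul_add, Finset.sum_add_distrib, map_add]
    have hC : ∀ a : K, toTower u v (MvPolynomial.C a) = C (C a) := fun a => by
      simp [toTower, show algebraMap K K[X][X] a = C (C a) from rfl]
    congr 1
    · rw [← map_mul, Finset.sum_mul]
      exact congrArg _ (Finset.sum_congr rfl fun i _ => by ring)
    · rw [Finset.sum_eq_single j (fun i _ hne => by rw [MvPolynomial.pderiv_X_of_ne hne.symm]; simp)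
        (fun h => absurd (Finset.mem_univ j) h), MvPolynomial.pderiv_X_self, mul_one, map_mul, hC]
      ring

end Groth.L03.LWU
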