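import Groth.Agent.L03.LangWeil.PlaneTwo
import Groth.Agent.L03.LWU.PlaneCoord
import Groth.Agent.L03.LWU.Disc

/-!
# The number of points of an absolutely irreducible plane curve, uniformly in the field
-/

set_option autoImplicit false
set_option linter.style.haveILetI false
universe u

open Polynomial FunFld Groth.Agent.FF Groth.Agent.Zeta WithZero Groth.L11.Zeta Groth.L03.LangWeil

namespace Groth.L03.LWU

variable {F : Type u} [Field F]

section genus

variable {L : Type u} [Field L] [Algebra (RatFunc F) L] [Algebra F L] [IsScalarTower F (RatFunc F) L]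

local notation "tX" => algebraMap (RatFunc F) L RatFunc.X

/-- A monic equation of total degree `d` bounds `θ` by `x`. -/
theorem val_theta_le_total {g : F[X][X]} (hg : g.Monic) (hdeg : DegLE g.natDegree g) {θ : L}
    (hθ : Polynomial.aeval θ (g.map (algebraMap F[X] (RatFunc F))) = 0) (P : Place F L) {m : ℤ} (hm : 0 ≤ m)
    (hx : P.1 tX ≤ exp m) : P.1 θ ≤ exp m := by
  by_contra hlt
  rw [not_le] at hlt
  have hθ0 : P.1 θ ≠ 0 := (bot_le.trans_lt hlt).ne'
  have h1θ : 1 ≤ P.1 θ := by
    refine le_trans ?_ hlt.le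
    rw [← exp_zero, exp_le_exp]
    exact hm
  have hsum : θ ^ g.natDegree = -∑ i ∈ Finset.range g.natDegree, Polynomial.aeval tX (g.coeff i) * θ ^ i := by
    rw [eq_neg_iff_add_eq_zero]
    have h0 := hθ
    rw [Polynomial.aeval_def, Polynomial.eval₂_map, Polynomial.eval₂_eq_sum_range, Finset.sum_range_succ,
      hg.coeff_natDegree, map_one, one_mul, add_comm] at h0
    simpa [RingHom.comp_apply, algebraMap_polynomial] using h0
  have hlt2 : P.1 (∑ i ∈ Finset.range g.natDegree, Polynomial.aeval tX (g.coeff i) * θ ^ i) <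
      P.1 θ ^ g.natDegree := by
    refine P.1.map_sum_lt (pow_ne_zero _ hθ0) fun i hi => ?_
    have hi := Finset.mem_range.mp hi
    rw [map_mul, map_pow]
    by_cases hci : g.coeff i = 0
    · rw [hci, map_zero, map_zero, zero_mul]
      exact pow_pos (zero_lt_iff.mpr hθ0) _
    have hle := hdeg i hci
    set c := g.coeff i
    have hc : P.1 (Polynomial.aeval tX c) ≤ exp m ^ (g.natDegree - i) := by
      have hpos : (1 : WithZero (Multiplicative ℤ)) ≤ exp m := by rw [← exp_zero, exp_le_exp]; exact hm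
      rw [Polynomial.aeval_eq_sum_range]
      refine P.1.map_sum_le fun j hj => ?_
      rw [Algebra.smul_def, map_mul, map_pow]
      refine (mul_le_mul' (P.2.1 _) (pow_le_pow_left' hx j)).trans ?_
      rw [one_mul]
      exact pow_le_pow_right' hpos (by have := Finset.mem_range.mp hj; omega)
    refine (mul_le_mul' hc le_rfl).trans_lt ?_
    refine lt_of_lt_of_le (mul_lt_mul_of_pos_right (pow_lt_pow_left₀ hlt zero_le (by omega))
      (pow_pos (zero_lt_iff.mpr hθ0) i)) ?_
    rw [← pow_add]
    exact pow_le_pow_right' h1θ (by omega)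
  rw [← map_pow, hsum, Valuation.map_neg] at hlt2
  exact lt_irrefl _ hlt2

/-- The genus of a plane curve of degree `d`. -/
theorem two_genus_le {g : F[X][X]} (hg : g.Monic) (hirr : AbsIrred g) {θ : L}
    (hθ : Polynomial.aeval θ (g.map (algebraMap F[X] (RatFunc F))) = 0)
    (hfin : Module.finrank (RatFunc F) L = g.natDegree) (hdeg : DegLE g.natDegree g) (hd : 1 ≤ g.natDegree) :
    2 * (genus F L : ℤ) ≤ ((g.natDegree : ℤ) - 1) * ((g.natDegree : ℤ) - 2) := by
  classical
  have hK := isFunctionField_curve hg hirr hθ hfin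
  set d := g.natDegree
  have hgen : IntermediateField.adjoin F ({tX, θ} : Set L) = ⊤ := by
    have htop : IntermediateField.adjoin (RatFunc F) ({θ} : Set L) = ⊤ := by
      haveI : FiniteDimensional (RatFunc F) L := FiniteDimensional.of_finrank_pos (by rw [hfin]; omega)
      refine IntermediateField.eq_of_le_of_finrank_eq le_top ?_
      rw [IntermediateField.finrank_top', hfin, IntermediateField.adjoin.finrank (IsIntegral.of_finite _ θ),
        natDegree_minpoly hg hirr hθ]
    refine eq_top_iff.mpr fun w _ => ?_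
    have hw : w ∈ IntermediateField.adjoin (RatFunc F) ({θ} : Set L) := htop ▸ trivial
    revert hw w
    suffices h : (IntermediateField.adjoin (RatFunc F) ({θ} : Set L)).toSubfield ≤
        (IntermediateField.adjoin F ({tX, θ} : Set L)).toSubfield from fun w _ hw => h hw
    rw [IntermediateField.adjoin_toSubfield, Subfield.closure_le]
    rintro z (⟨c, rfl⟩ | rfl)
    · induction c using RatFunc.induction_on with
      | f p q hq =>
        change algebraMap (RatFunc F) L (_ / _) ∈ IntermediateField.adjoin F ({tX, θ} : Set L)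
        rw [map_div₀, algebraMap_polynomial, algebraMap_polynomial]
        have hx : tX ∈ IntermediateField.adjoin F ({tX, θ} : Set L) :=
          IntermediateField.subset_adjoin F _ (Set.mem_insert _ _)
        refine div_mem ?_ ?_ <;>
          · rw [Polynomial.aeval_eq_sum_range]
            exact sum_mem fun j _ => IntermediateField.smul_mem _ (pow_mem hx j)
    · exact IntermediateField.subset_adjoin F _ (Set.mem_insert_of_mem _ rfl)
  set D : Divisor F L := (div F (tX)⁻¹).filter fun P => 0 < div F (tX)⁻¹ P with hDdef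
  have hDapp : ∀ P, D P = max (div F (tX)⁻¹ P) 0 := fun P => by
    by_cases h : 0 < div F (tX)⁻¹ P
    · rw [hDdef, Finsupp.filter_apply, if_pos h, max_eq_left h.le]
    · rw [hDdef, Finsupp.filter_apply, if_neg h, max_eq_right (not_lt.mp h)]
  have hxD : ∀ P : Place F L, P.1 tX ≤ exp (D P) := fun P => by
    rw [val_eq_exp P tX_ne_zero, exp_le_exp, hDapp, div_apply hK.1, ord_inv]
    exact le_max_left _ _
  have hD0 : ∀ P : Place F L, 0 ≤ D P := fun P => by rw [hDapp]; exact le_max_right _ _
  have hxL : tX ∈ FunFld.L D := fun P => hxD P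
  have hθL : θ ∈ FunFld.L D := fun P => val_theta_le_total hg hdeg hθ P (hD0 P) (hxD P)
  have h1L : (1 : L) ∈ FunFld.L D := fun P => by rw [map_one, ← exp_zero]; exact exp_le_exp.mpr (hD0 P)
  have hC : PlaneCoord D tX θ := ⟨transcendental_tX, fun P => hD0 P, fun P hP => by
    rw [hDapp, div_apply hK.1, ord_inv] at hP ⊢
    omega, hxL, hθL, hgen⟩
  have hdegD := hC.finrank_eq hK
  rw [finrank_adjoin_tX, hfin] at hdegD
  have h2 := (hC.genus_le hK (W := FunFld.L D) le_rfl h1L hxL hθL).1
  rw [← hdegD] at h2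
  exact h2

end genus

variable [Finite F]

theorem card_le_sigma_roots {g : F[X][X]} (hg : g.Monic) (S : Set F) :
    Nat.card {z : F × F // z.1 ∈ S ∧ evPt z.1 z.2 g = 0} ≤ Nat.card S * g.natDegree := by
  classical
  haveI := Fintype.ofFinite F
  let Φ : {z : F × F // z.1 ∈ S ∧ evPt z.1 z.2 g = 0} →
      Σ x : S, ↥((g.map (evalRingHom (x : F))).roots.toFinset) := fun z =>
    ⟨⟨z.1.1, z.2.1⟩, ⟨z.1.2, by
      rw [Multiset.mem_toFinset, Polynomial.mem_roots', IsRoot.def]
      refine ⟨(hg.map _).ne_zero, ?_⟩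
      rw [Polynomial.eval_map]
      have := z.2.2
      rwa [evPt, coe_eval₂RingHom] at this⟩⟩
  have hΦ : Function.Injective Φ := fun a b h => by
    have h1 : a.1.1 = b.1.1 := congrArg (fun p => (p.1 : F)) h
    have h2 : a.1.2 = b.1.2 := congrArg (fun p => (p.2 : F)) h
    exact Subtype.ext (Prod.ext h1 h2)
  refine (Nat.card_le_card_of_injective Φ hΦ).trans ?_
  rw [Nat.card_sigma, Nat.card_eq_fintype_card (α := S)]
  refine (Finset.sum_le_card_nsmul _ _ g.natDegree fun x _ => ?_).trans_eq (by simp)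
  rw [Nat.card_eq_fintype_card, Fintype.card_coe]
  exact (Multiset.toFinset_card_le _).trans ((card_roots' _).trans (natDegree_map_le))

theorem card_split {α : Type*} [Finite α] (p q : α → Prop) :
    Nat.card {a // p a} = Nat.card {a // p a ∧ q a} + Nat.card {a // p a ∧ ¬ q a} := by
  classical
  rw [← Nat.card_sum]
  exact Nat.card_congr
    { toFun := fun a => if h : q a.1 then Sum.inl ⟨a.1, a.2, h⟩ else Sum.inr ⟨a.1, a.2, h⟩
      invFun := fun s => s.elim (fun a => ⟨a.1, a.2.1⟩) fun a => ⟨a.1, a.2.1⟩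
      left_inv := fun a => by dsimp only; split_ifs <;> rfl
      right_inv := fun s => by
        rcases s with a | a
        · simp [dif_pos a.2.2]
        · simp [dif_neg a.2.2] }

set_option maxHeartbeats 800000 in
/-- The sharp count for a monic equation. -/
theorem plane_monic {g : F[X][X]} (hg : g.Monic) (hirr : AbsIrred g) (hdeg : DegLE g.natDegree g)
    (hsep : derivative g ≠ 0) :
    |(Nat.card {z : F × F // evPt z.1 z.2 g = 0} : ℝ) - Nat.card F| ≤
      ((g.natDegree : ℝ) - 1) * ((g.natDegree : ℝ) - 2) * Real.sqrt (Nat.card F) +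
        ((g.natDegree : ℝ) * (8 * (g.natDegree : ℝ) ^ 2 + 2) + 1) := by
  classical
  haveI := Fintype.ofFinite F
  set d := g.natDegree with hd
  have hirrself := irreducible_self hg hirr
  have hdpos : 0 < d := by
    rcases Nat.eq_zero_or_pos d with h | h
    · exact absurd (hg.natDegree_eq_zero.mp h ▸ hirrself) not_irreducible_one
    · exact h
  rcases (show d = 1 ∨ 2 ≤ d by omega) with h1 | h2
  · -- a graph
    have hN : Nat.card {z : F × F // evPt z.1 z.2 g = 0} = Nat.card F := by
      have hev : ∀ x y : F, evPt x y g = (g.coeff 0).eval x + y := fun x y => by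
        rw [evPt, Polynomial.coe_eval₂RingHom, Polynomial.eval₂_eq_sum_range, ← hd, h1, Finset.sum_range_succ, Finset.sum_range_one]
        have := hg.coeff_natDegree
        rw [← hd, h1] at this
        simp [this]
      refine Nat.card_congr
        { toFun := fun z => z.1.1
          invFun := fun x => ⟨(x, -(g.coeff 0).eval x), by rw [hev]; ring⟩
          left_inv := fun z => by
            have := z.2
            rw [hev] at this
            exact Subtype.ext (Prod.ext rfl (by linear_combination -this))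
          right_inv := fun x => rfl }
    rw [hN, h1]
    norm_num
  haveI := Fact.mk (irreducible_map_ratFunc hg hirrself)
  have hne : g.map (algebraMap F[X] (RatFunc F)) ≠ 0 := (hg.map _).ne_zero
  have hθ : Polynomial.aeval (AdjoinRoot.root (g.map (algebraMap F[X] (RatFunc F))))
      (g.map (algebraMap F[X] (RatFunc F))) = 0 := by rw [AdjoinRoot.aeval_eq, AdjoinRoot.mk_self]
  have hfin : Module.finrank (RatFunc F) (AdjoinRoot (g.map (algebraMap F[X] (RatFunc F)))) = d := by
    rw [(AdjoinRoot.powerBasis hne).finrank, AdjoinRoot.powerBasis_dim, hg.natDegree_map]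
  set r := resultant g (derivative g) with hrdef
  have hr : r ≠ 0 := resultant_derivative_ne_zero hg hirrself hsep
  have hrdeg : r.natDegree ≤ 4 * d ^ 2 := by
    have hc : ∀ i, (g.coeff i).natDegree ≤ d := fun i => by
      by_cases h : g.coeff i = 0
      · simp [h]
      · have := hdeg i h; omega
    have hc' : ∀ i, ((derivative g).coeff i).natDegree ≤ d := fun i => by
      rw [Polynomial.coeff_derivative]
      refine natDegree_mul_le.trans ?_
      have := hc (i + 1)
      rw [show ((i : F[X]) + 1) = ((i + 1 : ℕ) : F[X]) by push_cast; rfl, natDegree_natCast]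
      omega
    refine (resultant_measure_le Polynomial.natDegree natDegree_zero natDegree_one natDegree_neg
      natDegree_add_le (fun _ _ => natDegree_mul_le) hc hc' _ _).trans ?_
    have := natDegree_derivative_le g
    calc (g.natDegree + (derivative g).natDegree) * d ≤ (d + d) * d :=
          Nat.mul_le_mul_right _ (by omega)
      _ ≤ 4 * d ^ 2 := by ring_nf; omega
  have hsm : ∀ x0 y0, r.eval x0 ≠ 0 → evPt x0 y0 g = 0 → evPt x0 y0 (derivative g) ≠ 0 := fun x0 y0 h0 hg0 hg1 => by
    obtain ⟨a, b, hab⟩ := exists_bezout_derivative (g := g) (by omega)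
    have := congrArg (evPt x0 y0) hab
    rw [map_add, map_mul, map_mul, hg0, hg1, zero_mul, zero_mul, add_zero] at this
    refine h0 ?_
    rw [this, evPt, Polynomial.coe_eval₂RingHom, Polynomial.eval₂_C]
    rfl
  have hmain := abs_card_pts_sub_le hg hirr hθ hfin hr hsm
  rw [← hd] at hmain
  obtain ⟨γ, hγdef⟩ : ∃ γ : ℝ, (genus F (AdjoinRoot (g.map (algebraMap F[X] (RatFunc F)))) : ℝ) = γ := ⟨_, rfl⟩
  rw [hγdef] at hmain
  have hgenus : 2 * γ ≤ ((d : ℝ) - 1) * ((d : ℝ) - 2) := by
    rw [← hγdef]
    have := two_genus_le hg hirr hθ hfin hdeg (by omega)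
    exact_mod_cast this
  have hsplit := card_split (fun z : F × F => evPt z.1 z.2 g = 0) (fun z => r.eval z.1 ≠ 0)
  have e1 : Nat.card {z : F × F // evPt z.1 z.2 g = 0 ∧ r.eval z.1 ≠ 0} = Nat.card (Pts g r) :=
    Nat.card_congr (Equiv.subtypeEquivRight fun z => and_comm)
  have e2 : Nat.card {z : F × F // evPt z.1 z.2 g = 0 ∧ ¬ r.eval z.1 ≠ 0} ≤ r.natDegree * d := by
    refine le_trans (le_of_eq (Nat.card_congr (Equiv.subtypeEquivRight fun z => ?_)))
      ((card_le_sigma_roots hg {x : F | r.eval x = 0}).trans (Nat.mul_le_mul_right _ ?_))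
    · simp only [not_ne_iff, Set.mem_ofPred_eq]; exact and_comm
    · rw [Nat.card_eq_fintype_card, ← Set.toFinset_card]
      refine (Finset.card_le_card (t := r.roots.toFinset) fun x hx => ?_).trans
        ((Multiset.toFinset_card_le _).trans (card_roots' r))
      rw [Multiset.mem_toFinset, mem_roots hr]
      simpa using hx
  rw [hsplit, e1]
  push_cast
  have hE : (Nat.card {z : F × F // evPt z.1 z.2 g = 0 ∧ ¬ r.eval z.1 ≠ 0} : ℝ) ≤ (4 * (d : ℝ) ^ 2) * d := by
    refine (Nat.cast_le.mpr e2 : (_ : ℝ) ≤ ((r.natDegree * d : ℕ) : ℝ)).trans ?_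
    push_cast
    exact mul_le_mul_of_nonneg_right (by exact_mod_cast hrdeg) (by positivity)
  obtain ⟨E, hEdef⟩ : ∃ E : ℝ,
      (Nat.card {z : F × F // evPt z.1 z.2 g = 0 ∧ ¬ r.eval z.1 ≠ 0} : ℝ) = E := ⟨_, rfl⟩
  have hE0 : 0 ≤ E := hEdef ▸ Nat.cast_nonneg _
  rw [hEdef] at hE ⊢
  have hm1 : (d : ℝ) * ((r.natDegree : ℝ) + 1) ≤ d * (4 * (d : ℝ) ^ 2 + 1) :=
    mul_le_mul_of_nonneg_left (add_le_add (by exact_mod_cast hrdeg) le_rfl) (Nat.cast_nonneg _)
  have hsq : 2 * γ * Real.sqrt (Nat.card F) ≤ ((d : ℝ) - 1) * ((d : ℝ) - 2) * Real.sqrt (Nat.card F) :=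
    mul_le_mul_of_nonneg_right hgenus (Real.sqrt_nonneg _)
  have hd0 : (0 : ℝ) ≤ d := Nat.cast_nonneg _
  have hd3 : 0 ≤ (d : ℝ) * (d : ℝ) ^ 2 := by positivity
  obtain ⟨hlo, hhi⟩ := abs_le.mp hmain
  rw [abs_le]
  constructor <;> linarith

/-- The uniform sharp estimate for plane curves. -/
theorem plane_estimate (d : ℕ) : ∃ A : ℝ, 0 ≤ A ∧ ∀ {K : Type u} [Field K] [Finite K]
    (f : MvPolynomial (Fin 2) K), f.totalDegree = d → AbsIrr f →
    |(Nat.card {z : Fin 2 → K // MvPolynomial.eval z f = 0} : ℝ) - Nat.card K| ≤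
      ((d : ℝ) - 1) * ((d : ℝ) - 2) * Real.sqrt (Nat.card K) + A := by
  classical
  refine ⟨((d : ℝ) * (8 * (d : ℝ) ^ 2 + 2) + 1) + ((d : ℝ) + 2) ^ 2, by positivity, fun {K} _ _ f hfd hf => ?_⟩
  haveI := Fintype.ofFinite K
  rcases Nat.eq_zero_or_pos d with hd0 | hdpos
  · exfalso
    rw [hd0, MvPolynomial.totalDegree_eq_zero_iff_eq_C] at hfd
    have h := hf.irreducible
    rw [hfd] at h
    rcases eq_or_ne (MvPolynomial.coeff 0 f) 0 with h0 | h0
    · rw [h0, map_zero] at h; exact h.ne_zero rfl
    · exact h.not_isUnit ((isUnit_iff_ne_zero.mpr h0).map MvPolynomial.C)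
  have hmain0 : 0 ≤ ((d : ℝ) - 1) * ((d : ℝ) - 2) * Real.sqrt (Nat.card K) := by
    refine mul_nonneg ?_ (Real.sqrt_nonneg _)
    rcases (show d = 1 ∨ 2 ≤ d by omega) with rfl | h
    · norm_num
    · have : (2 : ℝ) ≤ d := by exact_mod_cast h
      exact mul_nonneg (by linarith) (by linarith)
  rcases le_or_gt (Nat.card K) (d + 1) with hq | hq
  · have h1 : (Nat.card {z : Fin 2 → K // MvPolynomial.eval z f = 0} : ℝ) ≤ (Nat.card K : ℝ) ^ 2 := by
      have := Nat.card_le_card_of_injective (fun z : {z : Fin 2 → K // MvPolynomial.eval z f = 0} => z.1)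
        Subtype.val_injective
      rw [Nat.card_fun, Nat.card_eq_fintype_card (α := Fin 2), Fintype.card_fin] at this
      exact_mod_cast this
    have h2 : (Nat.card K : ℝ) ≤ d + 1 := by exact_mod_cast hq
    have h3 : (0 : ℝ) ≤ Nat.card K := Nat.cast_nonneg _
    have h4 : (0 : ℝ) ≤ (Nat.card {z : Fin 2 → K // MvPolynomial.eval z f = 0} : ℝ) := Nat.cast_nonneg _
    have h5 : (0 : ℝ) ≤ (d : ℝ) * (8 * (d : ℝ) ^ 2 + 2) + 1 := by positivity
    rw [abs_le]
    constructor <;> nlinarith
  -- a good direction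
  set top := MvPolynomial.homogeneousComponent d f with htop
  have htop0 : top ≠ 0 := by
    have hfne : f ≠ 0 := hf.irreducible.ne_zero
    obtain ⟨e, he, hed⟩ := Finset.exists_mem_eq_sup f.support (MvPolynomial.support_nonempty.mpr hfne)
      (fun s => s.sum fun _ n => n)
    intro h
    have := congrArg (MvPolynomial.coeff e) h
    rw [htop, MvPolynomial.coeff_homogeneousComponent, if_pos, MvPolynomial.coeff_zero] at this
    · exact MvPolynomial.mem_support_iff.mp he this
    · rw [← hfd]; exact hed.symm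
  have hder : ∃ i : Fin 2, MvPolynomial.pderiv i f ≠ 0 := by
    by_contra! h0
    -- all partial derivatives vanish: a power
    obtain ⟨p, hp⟩ := CharP.exists K
    haveI : Fact p.Prime := ⟨CharP.char_is_prime K p⟩
    have hsup : ∀ e ∈ f.support, ∀ i, p ∣ e i := fun e he i => by
      by_contra hdvd
      rcases Nat.eq_zero_or_pos (e i) with h | h
      · exact hdvd (h ▸ dvd_zero p)
      have h1 := congrArg (MvPolynomial.coeff (e - Finsupp.single i 1)) (h0 i)
      rw [MvPolynomial.coeff_zero, MvPolynomial.coeff_pderiv,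
        tsub_add_cancel_of_le (Finsupp.single_le_iff.mpr h)] at h1
      rcases mul_eq_zero.mp h1 with h2 | h2
      · exact MvPolynomial.mem_support_iff.mp he h2
      · rw [Finsupp.tsub_apply, Finsupp.single_eq_same] at h2
        rw [show ((e i - 1 : ℕ) : K) + 1 = ((e i - 1 + 1 : ℕ) : K) by push_cast; rfl, Nat.sub_add_cancel h,
          CharP.cast_eq_zero_iff K p] at h2
        exact hdvd h2
    haveI : ExpChar K p := ExpChar.prime Fact.out
    choose root hroot using fun c : K => surjective_frobenius K p c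
    let h : MvPolynomial (Fin 2) K := ∑ e ∈ f.support,
      MvPolynomial.monomial (e.mapRange (· / p) (Nat.zero_div p)) (root (MvPolynomial.coeff e f))
    have hfp : f = h ^ p := by
      conv_lhs => rw [f.as_sum]
      rw [sum_pow_char]
      refine Finset.sum_congr rfl fun e he => ?_
      rw [MvPolynomial.monomial_pow]
      have : (root (MvPolynomial.coeff e f)) ^ p = MvPolynomial.coeff e f := hroot _
      rw [this]
      rw [show p • e.mapRange (· / p) (Nat.zero_div p) = e from Finsupp.ext fun i => by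
        simp [Nat.mul_div_cancel' (hsup e he i)]]
    have hhu : ¬ IsUnit h := fun hu => hf.irreducible.not_isUnit (hfp ▸ hu.pow p)
    exact (hf.irreducible.isUnit_or_isUnit (a := h) (b := h ^ (p - 1))
        (by rw [hfp, ← pow_succ', Nat.sub_add_cancel (Fact.out : p.Prime).pos])).elim hhu fun hu =>
      hhu ((isUnit_pow_iff (by have := (Fact.out : p.Prime).two_le; omega)).mp hu)
  obtain ⟨i0, hi0⟩ := hder
  obtain ⟨e0, he0⟩ := MvPolynomial.support_nonempty.mpr hi0
  set ℓ : MvPolynomial (Fin 2) K := ∑ i, MvPolynomial.C (MvPolynomial.coeff e0 (MvPolynomial.pderiv i f)) * MvPolynomial.X i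
  have hℓ : ℓ ≠ 0 := fun h => by
    have := congrArg (MvPolynomial.coeff (Finsupp.single i0 1)) h
    simp only [ℓ, MvPolynomial.coeff_sum, MvPolynomial.coeff_C_mul, MvPolynomial.coeff_X, MvPolynomial.coeff_zero,
      Finsupp.single_left_inj one_ne_zero] at this
    simp [MvPolynomial.mem_support_iff.mp he0] at this
  obtain ⟨v, hv⟩ := exists_eval_ne_zero (mul_ne_zero htop0 hℓ) (by
    refine lt_of_le_of_lt (MvPolynomial.totalDegree_mul _ _) (lt_of_le_of_lt (add_le_add
      ((MvPolynomial.homogeneousComponent_isHomogeneous d f).totalDegree_le) ((MvPolynomial.IsHomogeneous.sum _ _ 1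
        fun i _ => MvPolynomial.isHomogeneous_C_mul_X _ i).totalDegree_le)) hq))
  rw [map_mul, mul_ne_zero_iff] at hv
  obtain ⟨u, hu⟩ : ∃ u : Fin 2 → K, u 0 * v 1 - u 1 * v 0 ≠ 0 := by
    rcases eq_or_ne (v 1) 0 with h | h
    · refine ⟨![0, 1], ?_⟩
      have : v 0 ≠ 0 := fun h0 => hv.2 (by simp [ℓ, Fin.sum_univ_two, h, h0])
      simpa using this
    · exact ⟨![1, 0], by simpa using h⟩
  set c := MvPolynomial.eval v top with hcdef
  set G := toTower u v f with hGdef
  have hGdeg : DegLE d G := hfd ▸ degLE_toTower u v f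
  have hGtop : G.coeff d = Polynomial.C c := by rw [hGdef, ← hfd, coeff_toTower, hfd]
  set g : K[X][X] := Polynomial.C (Polynomial.C c⁻¹) * G with hgdef
  have hgdeg : DegLE d g := by
    have := (degLE_const c⁻¹).mul hGdeg
    rwa [zero_add] at this
  have hgcoeff : g.coeff d = 1 := by
    rw [hgdef, Polynomial.coeff_C_mul, hGtop, ← map_mul, inv_mul_cancel₀ hv.1, map_one]
  have hgnat : g.natDegree = d :=
    le_antisymm hgdeg.natDegree_le (le_natDegree_of_ne_zero (by rw [hgcoeff]; exact one_ne_zero))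
  have hg : g.Monic := by rw [Monic, leadingCoeff, hgnat, hgcoeff]
  have hsep : derivative g ≠ 0 := by
    rw [hgdef, Polynomial.derivative_C_mul, hGdef, derivative_toTower]
    refine mul_ne_zero (by simp [hv.1]) ((map_ne_zero_iff _ (toTower_injective hu)).mpr fun h => ?_)
    have := congrArg (MvPolynomial.coeff e0) h
    simp only [MvPolynomial.coeff_sum, MvPolynomial.coeff_C_mul, MvPolynomial.coeff_zero] at this
    refine hv.2 ?_
    simp only [ℓ, map_sum, map_mul, MvPolynomial.eval_C, MvPolynomial.eval_X]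
    rw [← this]
    exact Finset.sum_congr rfl fun i _ => mul_comm _ _
  have hirr : AbsIrred g := fun F' _ _ _ => by
    obtain ⟨e, he⟩ := eval₂_toTower_symm (K := F') (algebraMap K F' ∘ u) (algebraMap K F' ∘ v) (by
      simp only [Function.comp_apply, ← map_mul, ← map_sub]
      exact (_root_.map_ne_zero _).mpr hu)
    rw [hgdef, Polynomial.map_mul, Polynomial.map_C, map_toTower, ← he]
    refine (irreducible_isUnit_mul ?_).mpr
      ((MulEquiv.irreducible_iff e).mpr (hf.irreducible_finite F'))
    simp [hv.1]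
  have hN : Nat.card {z : Fin 2 → K // MvPolynomial.eval z f = 0} =
      Nat.card {z : K × K // evPt z.1 z.2 g = 0} := by
    have key : ∀ z : K × K, evPt z.1 z.2 g = 0 ↔
        MvPolynomial.eval (fun i => u i * z.1 + v i * z.2) f = 0 := fun z => by
      rw [evPt_eq_eval_eval, hgdef, Polynomial.eval_mul, Polynomial.eval_mul, hGdef, eval_toTower]
      simp [hv.1]
    let T : K × K → (Fin 2 → K) := fun z i => u i * z.1 + v i * z.2
    have hT : Function.Bijective T := by
      rw [Fintype.bijective_iff_injective_and_card]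
      refine ⟨fun a b h => ?_, by simp [sq]⟩
      have h0 := congrFun h 0
      have h1 := congrFun h 1
      simp only [T] at h0 h1
      have e1 : (u 0 * v 1 - u 1 * v 0) * (a.1 - b.1) = 0 := by linear_combination v 1 * h0 - v 0 * h1
      have e2 : (u 0 * v 1 - u 1 * v 0) * (a.2 - b.2) = 0 := by linear_combination u 0 * h1 - u 1 * h0
      exact Prod.ext (sub_eq_zero.mp ((mul_eq_zero.mp e1).resolve_left hu))
        (sub_eq_zero.mp ((mul_eq_zero.mp e2).resolve_left hu))
    exact (Nat.card_congr ((Equiv.ofBijective T hT).subtypeEquiv key)).symm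
  have := plane_monic hg hirr (hgnat.symm ▸ hgdeg) hsep
  rw [hgnat] at this
  rw [hN]
  refine this.trans ?_
  have : (0 : ℝ) ≤ ((d : ℝ) + 2) ^ 2 := by positivity
  linarith

end Groth.L03.LWU
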