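import Groth.Agent.L03.LWU.BadSet
import Groth.Agent.L03.LWU.Plane

/-!
# The number of points of an absolutely irreducible hypersurface, uniformly in the field
-/

set_option autoImplicit false
set_option linter.style.haveILetI false
universe u

open MvPolynomial

namespace Groth.L03.LWU

section planes

variable {K : Type u} [Field K] {m : ℕ}

/-- The point of the plane `L` over `z`. -/
def planePt (L : PP m → K) (z : Fin 2 → K) : Fin (m + 2) → K :=
  Fin.cons (z 0) (Fin.cons (z 1) fun j => L (j, 0) + L (j, 1) * z 0 + L (j, 2) * z 1)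

theorem planePt_succ_succ (L : PP m → K) (z : Fin 2 → K) (j : Fin m) :
    planePt L z j.succ.succ = L (j, 0) + L (j, 1) * z 0 + L (j, 2) * z 1 := rfl

theorem eval_section (L : PP m → K) (z : Fin 2 → K) (f : MvPolynomial (Fin (m + 2)) K) :
    eval z (aeval (planeVals L) f) = eval (planePt L z) f := by
  have : (eval z).comp (aeval (planeVals L) : MvPolynomial (Fin (m + 2)) K →ₐ[K] _).toRingHom =
      eval (planePt L z) := by
    refine MvPolynomial.ringHom_ext (fun c => by simp) fun i => ?_
    simp only [RingHom.comp_apply, AlgHom.toRingHom_eq_coe, RingHom.coe_coe, aeval_X, eval_X]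
    refine Fin.cases ?_ (fun i => ?_) i
    · simp [planeVals_zero, planePt]
    refine Fin.cases ?_ (fun j => ?_) i
    · show eval z (planeVals L 1) = _
      rw [planeVals_one, eval_X]
      rfl
    simp [planeVals_succ, planePt_succ_succ]
  exact RingHom.congr_fun this f

/-- A plane and a point on it are a point and two slopes. -/
def planePtEquiv (K : Type u) [Field K] (m : ℕ) :
    (PP m → K) × (Fin 2 → K) ≃ (Fin (m + 2) → K) × (Fin m × Fin 2 → K) where
  toFun a := (planePt a.1 a.2, fun p => a.1 (p.1, p.2.succ))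
  invFun b :=
    (fun p => Fin.cases (b.1 p.1.succ.succ - b.2 (p.1, 0) * b.1 0 - b.2 (p.1, 1) * b.1 1)
      (fun c => b.2 (p.1, c)) p.2, ![b.1 0, b.1 1])
  left_inv a := by
    refine Prod.ext (funext fun ⟨j, c⟩ => ?_) (funext fun i => ?_)
    · refine Fin.cases ?_ (fun c => ?_) c
      · simp only [Fin.cases_zero, planePt_succ_succ]
        show a.1 (j, 0) + a.1 (j, 1) * a.2 0 + a.1 (j, 2) * a.2 1 - a.1 (j, Fin.succ 0) * planePt a.1 a.2 0 -
          a.1 (j, Fin.succ 1) * planePt a.1 a.2 1 = a.1 (j, 0)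
        rw [show planePt a.1 a.2 0 = a.2 0 from rfl, show planePt a.1 a.2 1 = a.2 1 from rfl,
          show (Fin.succ 0 : Fin 3) = 1 from rfl, show (Fin.succ 1 : Fin 3) = 2 from rfl]
        ring
      · rfl
    · fin_cases i <;> rfl
  right_inv b := by
    refine Prod.ext (funext fun i => ?_) (funext fun p => rfl)
    refine Fin.cases rfl (fun i => ?_) i
    refine Fin.cases rfl (fun j => ?_) i
    show b.1 j.succ.succ - b.2 (j, 0) * b.1 0 - b.2 (j, 1) * b.1 1 + b.2 (j, 0) * b.1 0 + b.2 (j, 1) * b.1 1 = _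
    ring

theorem sum_card_sections [Finite K] [Fintype (PP m → K)] (f : MvPolynomial (Fin (m + 2)) K) :
    ∑ L : PP m → K, Nat.card {z : Fin 2 → K // eval z (aeval (planeVals L) f) = 0} =
      Nat.card {v : Fin (m + 2) → K // eval v f = 0} * Nat.card K ^ (2 * m) := by
  calc ∑ L : PP m → K, Nat.card {z : Fin 2 → K // eval z (aeval (planeVals L) f) = 0}
      = Nat.card (Σ L : PP m → K, {z : Fin 2 → K // eval z (aeval (planeVals L) f) = 0}) := Nat.card_sigma.symm
    _ = Nat.card ({v : Fin (m + 2) → K // eval v f = 0} × (Fin m × Fin 2 → K)) :=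
        Nat.card_congr
          ((Equiv.subtypeProdEquivSigmaSubtype fun L z => eval z (aeval (planeVals L) f) = 0).symm.trans
            (((planePtEquiv K m).subtypeEquiv fun a => by
              show _ ↔ eval (planePt a.1 a.2) f = 0
              rw [eval_section]).trans
              (Equiv.prodSubtypeFstEquivSubtypeProd (p := fun v => eval v f = 0))))
    _ = _ := by
        rw [Nat.card_prod, Nat.card_fun, Nat.card_prod, Nat.card_fin, Nat.card_fin, mul_comm m 2]

/-- The planes inside the hypersurface are few. -/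
theorem card_zero_planes_le [Finite K] {f : MvPolynomial (Fin (m + 2)) K} (hf0 : f ≠ 0) :
    Nat.card {L : PP m → K // aeval (planeVals L) f = 0} * Nat.card K ^ 2 ≤
      (f.totalDegree + 1) ^ 2 * Nat.card K ^ (3 * m) := by
  classical
  set d := f.totalDegree
  have hPP : Nat.card (PP m) = 3 * m := by rw [Nat.card_prod, Nat.card_fin, Nat.card_fin, mul_comm]
  by_cases hq : Nat.card K ≤ d + 1
  · calc Nat.card {L : PP m → K // aeval (planeVals L) f = 0} * Nat.card K ^ 2
        ≤ Nat.card K ^ (3 * m) * (d + 1) ^ 2 := by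
          gcongr
          rw [← hPP, ← Nat.card_fun]
          exact Nat.card_le_card_of_injective _ Subtype.val_injective
      _ = _ := mul_comm _ _
  push Not at hq
  -- the restriction to the fibre over a point
  let slice : K → K → MvPolynomial (Fin m) K := fun a b => aeval (Fin.cons (C a) (Fin.cons (C b) X)) f
  have hslice : ∀ a b w, eval w (slice a b) = eval (Fin.cons a (Fin.cons b w)) f := by
    intro a b w
    have : (eval w).comp (aeval (Fin.cons (C a) (Fin.cons (C b) X)) :
        MvPolynomial (Fin (m + 2)) K →ₐ[K] MvPolynomial (Fin m) K).toRingHom =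
          eval (Fin.cons a (Fin.cons b w) : Fin (m + 2) → K) := by
      refine MvPolynomial.ringHom_ext (fun c => by simp) fun i => ?_
      refine Fin.cases (by simp) (fun i => ?_) i
      refine Fin.cases (by simp) (fun j => by simp) i
    exact RingHom.congr_fun this f
  have hdeg : ∀ a b, (slice a b).totalDegree ≤ d := by
    intro a b
    refine totalDegree_aeval_le' _ (fun i => ?_) f
    refine Fin.cases (by simp) (fun i => ?_) i
    refine Fin.cases (by simp) (fun j => ?_) i
    simp
  obtain ⟨v, hv⟩ := exists_eval_ne_zero hf0 (by omega : d < Nat.card K)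
  obtain ⟨w, hw⟩ : ∃ w, eval w (f * (X 0 - C (v 0))) ≠ 0 := by
    refine exists_eval_ne_zero (mul_ne_zero hf0 fun h => ?_) ?_
    · have h1 := congrArg (eval fun _ => v 0 + 1) h
      simp at h1
    · refine lt_of_le_of_lt ((totalDegree_mul _ _).trans ?_) hq
      refine Nat.add_le_add_left ((totalDegree_sub _ _).trans ?_) _
      simp
  rw [map_mul, mul_ne_zero_iff, map_sub, eval_X, eval_C, sub_ne_zero] at hw
  have hne : ∀ u : Fin (m + 2) → K, eval u f ≠ 0 → slice (u 0) (u 1) ≠ 0 := by
    intro u hu h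
    have h1 := hslice (u 0) (u 1) (fun j => u j.succ.succ)
    rw [h, map_zero] at h1
    apply hu
    rw [h1]
    congr 2
    funext i
    refine Fin.cases rfl (fun i => ?_) i
    exact Fin.cases rfl (fun j => rfl) i
  -- the two conditions
  let za : Fin 2 → K := ![v 0, v 1]
  let zb : Fin 2 → K := ![w 0, w 1]
  let Φ : {L : PP m → K // aeval (planeVals L) f = 0} →
      {x : Fin m → K // eval x (slice (v 0) (v 1)) = 0} × {x : Fin m → K // eval x (slice (w 0) (w 1)) = 0} ×
        (Fin m → K) :=
    fun L =>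
      (⟨fun j => planePt L.1 za j.succ.succ, by
        rw [hslice]
        show eval (planePt L.1 za) f = 0
        rw [← eval_section, L.2, map_zero]⟩,
      ⟨fun j => planePt L.1 zb j.succ.succ, by
        rw [hslice]
        show eval (planePt L.1 zb) f = 0
        rw [← eval_section, L.2, map_zero]⟩,
      fun j => L.1 (j, 2))
  have hΦ : Function.Injective Φ := by
    intro L L' h
    simp only [Φ, Prod.mk.injEq, Subtype.mk.injEq] at h
    obtain ⟨h1, h2, h3⟩ := h
    refine Subtype.ext (funext fun ⟨j, c⟩ => ?_)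
    have e1 := congrFun h1 j
    have e2 := congrFun h2 j
    have e3 := congrFun h3 j
    simp only [planePt_succ_succ, za, zb, Matrix.cons_val_zero, Matrix.cons_val_one] at e1 e2
    have e4 : L.1 (j, 1) = L'.1 (j, 1) := by
      have h0 : (L.1 (j, 1) - L'.1 (j, 1)) * (v 0 - w 0) = 0 := by linear_combination e1 - e2 - (v 1 - w 1) * e3
      rcases mul_eq_zero.mp h0 with h0 | h0
      · exact sub_eq_zero.mp h0
      · exact absurd (sub_eq_zero.mp h0).symm hw.2
    fin_cases c
    · show L.1 (j, 0) = L'.1 (j, 0)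
      linear_combination e1 - v 0 * e4 - v 1 * e3
    · exact e4
    · exact e3
  have h1 := Nat.card_le_card_of_injective Φ hΦ
  rw [Nat.card_prod, Nat.card_prod, Nat.card_fun, Nat.card_fin] at h1
  have hA := (card_zeros_le (hne v hv)).trans (Nat.mul_le_mul_right _ (hdeg _ _))
  have hB := (card_zeros_le (hne w hw.1)).trans (Nat.mul_le_mul_right _ (hdeg _ _))
  rw [Nat.card_fin] at hA hB
  refine (Nat.mul_le_mul_right _ h1).trans ?_
  calc _ = (Nat.card {x : Fin m → K // eval x (slice (v 0) (v 1)) = 0} * Nat.card K) *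
        (Nat.card {x : Fin m → K // eval x (slice (w 0) (w 1)) = 0} * Nat.card K) * Nat.card K ^ m := by ring
    _ ≤ (d * Nat.card K ^ m) * (d * Nat.card K ^ m) * Nat.card K ^ m := by gcongr
    _ = d ^ 2 * Nat.card K ^ (3 * m) := by ring
    _ ≤ _ := by gcongr; omega

end planes

/-- The uniform Lang–Weil bound for absolutely irreducible hypersurfaces. -/
theorem hyper_estimate (d m : ℕ) : ∃ A : ℝ, 0 ≤ A ∧ ∀ {K : Type u} [Field K] [Finite K]
    (f : MvPolynomial (Fin (m + 2)) K), f.totalDegree = d → AbsIrr f →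
    |(Nat.card {z : Fin (m + 2) → K // eval z f = 0} : ℝ) - (Nat.card K : ℝ) ^ (m + 1)| ≤
      (Nat.card K : ℝ) ^ m * (((d : ℝ) - 1) * ((d : ℝ) - 2) * Real.sqrt (Nat.card K) + A) := by
  classical
  rcases Nat.eq_zero_or_pos d with rfl | hd
  · refine ⟨0, le_rfl, fun {K} _ _ f hfd hf => ?_⟩
    exfalso
    have h := totalDegree_pos_of_irreducible hf.irreducible
    omega
  obtain ⟨A, hA, hplane⟩ := plane_estimate.{u} d
  obtain ⟨C, hC⟩ := card_bad_planes_le.{u} d m hd
  refine ⟨A + ((d : ℝ) + 1) * C + ((d : ℝ) + 1) ^ 2, by positivity, fun {K} _ _ f hfd hf => ?_⟩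
  haveI := Fintype.ofFinite K
  set q : ℝ := (Nat.card K : ℝ) with hqdef
  set N : ℝ := (Nat.card {z : Fin (m + 2) → K // eval z f = 0} : ℝ)
  set B : ℝ := ((d : ℝ) - 1) * ((d : ℝ) - 2) * Real.sqrt (Nat.card K)
  have hq : 0 < q := Nat.cast_pos.mpr Nat.card_pos
  have hB : 0 ≤ B := by
    refine mul_nonneg ?_ (Real.sqrt_nonneg _)
    rcases Nat.lt_or_ge d 2 with hd2 | hd2
    · obtain rfl : d = 1 := by omega
      norm_num
    · have : (2 : ℝ) ≤ d := by exact_mod_cast hd2
      nlinarith
  have hPP : Nat.card (PP m) = 3 * m := by rw [Nat.card_prod, Nat.card_fin, Nat.card_fin, mul_comm]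
  let n : (PP m → K) → ℝ := fun L => Nat.card {z : Fin 2 → K // eval z (aeval (planeVals L) f) = 0}
  have hsum : ∑ L, n L = N * q ^ (2 * m) := by
    simp only [n, N, q]
    rw [← Nat.cast_sum, sum_card_sections]
    push_cast
    rfl
  have hbound : ∀ L, |n L - q| ≤ (B + A) + (if GoodPlane d f L then 0 else ((d : ℝ) + 1) * q) +
      (if aeval (planeVals L) f = 0 then q ^ 2 else 0) := by
    intro L
    by_cases hg : GoodPlane d f L
    · have := hplane _ hg.2 hg.1
      rw [if_pos hg, add_zero]
      refine le_add_of_le_of_nonneg this ?_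
      split_ifs <;> positivity
    rw [if_neg hg]
    have hn0 : 0 ≤ n L := Nat.cast_nonneg _
    by_cases hz : aeval (planeVals L) f = 0
    · rw [if_pos hz]
      have hall : n L = q ^ 2 := by
        show ((Nat.card {z : Fin 2 → K // eval z (aeval (planeVals L) f) = 0} : ℕ) : ℝ) = q ^ 2
        rw [hqdef, ← Nat.cast_pow, Nat.cast_inj]
        rw [Nat.card_congr (Equiv.subtypeUnivEquiv fun z => by rw [hz, map_zero]), Nat.card_fun, Nat.card_fin]
      have hle : q ≤ ((d : ℝ) + 1) * q := le_mul_of_one_le_left hq.le (by norm_cast; omega)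
      rw [hall, abs_le]
      constructor <;> nlinarith
    · rw [if_neg hz, add_zero]
      have h1 := (card_zeros_le hz).trans
        (Nat.mul_le_mul_right _ ((totalDegree_aeval_le' _ (totalDegree_planeVals_le L) f).trans hfd.le))
      rw [Nat.card_fin] at h1
      have h2 : n L ≤ d * q := by
        have h3 : n L * q ≤ d * q ^ 2 := by
          simp only [n, q]
          exact_mod_cast h1
        nlinarith
      rw [abs_le]
      constructor <;> nlinarith
  have hfl : ∀ (p : (PP m → K) → Prop) [DecidablePred p],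
      ((Finset.univ.filter p).card : ℝ) = (Nat.card {L // p L} : ℝ) := fun p _ => by
    rw [Nat.card_eq_fintype_card, Fintype.card_subtype]
  have hbad : (∑ L : PP m → K, if GoodPlane d f L then 0 else ((d : ℝ) + 1) * q) ≤
      ((d : ℝ) + 1) * C * q ^ (3 * m) := by
    rw [Finset.sum_ite, Finset.sum_const_zero, zero_add, Finset.sum_const, nsmul_eq_mul, hfl]
    have h : (Nat.card {L : PP m → K // ¬ GoodPlane d f L} : ℝ) * q ≤ C * q ^ (3 * m) := by
      rw [← hPP]
      simp only [q]
      exact_mod_cast hC K f hfd hf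
    calc (Nat.card {L : PP m → K // ¬ GoodPlane d f L} : ℝ) * (((d : ℝ) + 1) * q)
        = ((d : ℝ) + 1) * ((Nat.card {L : PP m → K // ¬ GoodPlane d f L} : ℝ) * q) := by ring
      _ ≤ ((d : ℝ) + 1) * (C * q ^ (3 * m)) := by gcongr
      _ = _ := by ring
  have hzero : (∑ L : PP m → K, if aeval (planeVals L) f = 0 then q ^ 2 else 0) ≤
      ((d : ℝ) + 1) ^ 2 * q ^ (3 * m) := by
    rw [Finset.sum_ite, Finset.sum_const_zero, add_zero, Finset.sum_const, nsmul_eq_mul, hfl]
    have h := card_zero_planes_le (K := K) hf.irreducible.ne_zero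
    rw [hfd] at h
    simp only [q]
    exact_mod_cast h
  have hcardL : (Finset.univ : Finset (PP m → K)).card = Nat.card K ^ (3 * m) := by
    rw [Finset.card_univ, ← Nat.card_eq_fintype_card, Nat.card_fun, hPP]
  have hkey : |N * q ^ (2 * m) - q ^ (3 * m) * q| ≤
      q ^ (3 * m) * (B + (A + ((d : ℝ) + 1) * C + ((d : ℝ) + 1) ^ 2)) := by
    have heq : N * q ^ (2 * m) - q ^ (3 * m) * q = ∑ L : PP m → K, (n L - q) := by
      rw [Finset.sum_sub_distrib, hsum, Finset.sum_const, hcardL, nsmul_eq_mul]
      push_cast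
      rfl
    rw [heq]
    refine (Finset.abs_sum_le_sum_abs _ _).trans ((Finset.sum_le_sum fun L _ => hbound L).trans ?_)
    rw [Finset.sum_add_distrib, Finset.sum_add_distrib, Finset.sum_const, hcardL, nsmul_eq_mul]
    push_cast
    nlinarith
  have hfac : N * q ^ (2 * m) - q ^ (3 * m) * q = q ^ (2 * m) * (N - q ^ (m + 1)) := by ring
  rw [hfac, abs_mul, abs_of_pos (pow_pos hq _),
    show q ^ (3 * m) * (B + (A + ((d : ℝ) + 1) * C + ((d : ℝ) + 1) ^ 2)) =
      q ^ (2 * m) * (q ^ m * (B + (A + ((d : ℝ) + 1) * C + ((d : ℝ) + 1) ^ 2))) by ring] at hkey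
  exact le_of_mul_le_mul_left hkey (pow_pos hq _)

end Groth.L03.LWU
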