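import Groth.Agent.L03.LWU.Poly
import Mathlib.Algebra.MvPolynomial.PDeriv
import Mathlib.FieldTheory.Perfect
import Mathlib.Algebra.CharP.Lemmas
import Mathlib.RingTheory.Polynomial.UniqueFactorization
import Mathlib.Algebra.Polynomial.AlgebraMap
import Mathlib.Algebra.MvPolynomial.NoZeroDivisors

/-!
# Derivatives of irreducible polynomials, linear polynomials, restriction to a line
-/

set_option autoImplicit false
set_option linter.style.haveILetI false
universe u v

open MvPolynomial

namespace Groth.L03.LWU

variable {σ : Type v} {K : Type u} [Field K]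

theorem homogeneousComponent_totalDegree_ne_zero {f : MvPolynomial σ K} (hf : f ≠ 0) :
    homogeneousComponent f.totalDegree f ≠ 0 := by
  obtain ⟨e, he, hed⟩ := Finset.exists_mem_eq_sup f.support (support_nonempty.mpr hf)
    (fun s => s.sum fun _ n => n)
  intro h
  have := congrArg (coeff e) h
  rw [coeff_homogeneousComponent, if_pos, coeff_zero] at this
  · exact mem_support_iff.mp he this
  · exact hed.symm

theorem totalDegree_pderiv_lt {f : MvPolynomial σ K} (i : σ) (h : pderiv i f ≠ 0) :
    (pderiv i f).totalDegree < f.totalDegree := by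
  classical
  obtain ⟨e, he, hed⟩ := Finset.exists_mem_eq_sup (pderiv i f).support (support_nonempty.mpr h)
    (fun s => s.sum fun _ n => n)
  rw [mem_support_iff, coeff_pderiv] at he
  have hmem := le_totalDegree (mem_support_iff.mpr (left_ne_zero_of_mul he))
  rw [Finsupp.sum_add_index' (fun _ => rfl) (fun _ _ _ => rfl), Finsupp.sum_single_index rfl] at hmem
  change (pderiv i f).totalDegree = _ at hed
  omega

theorem totalDegree_pos_of_irreducible {f : MvPolynomial σ K} (hf : Irreducible f) : 0 < f.totalDegree := by
  rcases Nat.eq_zero_or_pos f.totalDegree with h | h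
  · rw [totalDegree_eq_zero_iff_eq_C] at h
    rcases eq_or_ne (coeff 0 f) 0 with h0 | h0
    · exact absurd (h.trans (by rw [h0, map_zero])) hf.ne_zero
    · exact absurd (h ▸ (isUnit_iff_ne_zero.mpr h0).map C) hf.not_isUnit
  · exact h

/-- An irreducible polynomial over a perfect field has a nonzero partial derivative. -/
theorem exists_pderiv_ne_zero [PerfectField K] {f : MvPolynomial σ K} (hf : Irreducible f) :
    ∃ i, pderiv i f ≠ 0 := by
  classical
  by_contra! h0
  have key : ∀ e ∈ f.support, ∀ i, (e i : K) = 0 := fun e he i => by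
    rcases Nat.eq_zero_or_pos (e i) with h | h
    · rw [h, Nat.cast_zero]
    have h1 := congrArg (coeff (e - Finsupp.single i 1)) (h0 i)
    rw [coeff_zero, coeff_pderiv, tsub_add_cancel_of_le (Finsupp.single_le_iff.mpr h)] at h1
    have h2 := (mul_eq_zero.mp h1).resolve_left (mem_support_iff.mp he)
    rw [Finsupp.tsub_apply, Finsupp.single_eq_same] at h2
    rw [show e i = e i - 1 + 1 by omega, Nat.cast_add, Nat.cast_one]
    exact h2
  rcases CharP.exists' K with hchar | ⟨p, hpf, hp⟩
  · have := totalDegree_pos_of_irreducible hf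
    obtain ⟨e, he, hed⟩ := Finset.exists_mem_eq_sup f.support (support_nonempty.mpr hf.ne_zero)
      (fun s => s.sum fun _ n => n)
    change f.totalDegree = _ at hed
    have h1 : e = 0 := Finsupp.ext fun i => Nat.cast_eq_zero.mp (key e he i)
    rw [h1, Finsupp.sum_zero_index] at hed
    omega
  · haveI := hp
    haveI : ExpChar K p := ExpChar.prime Fact.out
    haveI := PerfectField.toPerfectRing (K := K) p
    choose root hroot using fun c : K => surjective_frobenius K p c
    let h : MvPolynomial σ K := ∑ e ∈ f.support,
      monomial (e.mapRange (· / p) (Nat.zero_div p)) (root (coeff e f))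
    have hfp : f = h ^ p := by
      conv_lhs => rw [f.as_sum]
      rw [sum_pow_char]
      refine Finset.sum_congr rfl fun e he => ?_
      rw [monomial_pow, show root (coeff e f) ^ p = coeff e f from hroot _,
        show p • e.mapRange (· / p) (Nat.zero_div p) = e from Finsupp.ext fun i => by
          simp [Nat.mul_div_cancel' ((CharP.cast_eq_zero_iff K p _).mp (key e he i))]]
    have hhu : ¬ IsUnit h := fun hu => hf.not_isUnit (hfp ▸ hu.pow p)
    have hp2 := (Fact.out : p.Prime).two_le
    exact (hf.isUnit_or_isUnit (a := h) (b := h ^ (p - 1))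
      (by rw [hfp, ← pow_succ', Nat.sub_add_cancel (by omega : 1 ≤ p)])).elim hhu fun hu =>
        hhu ((isUnit_pow_iff (by omega)).mp hu)

/-- Polynomials of degree one over a field are irreducible. -/
theorem irreducible_of_totalDegree_eq_one {f : MvPolynomial σ K} (h : f.totalDegree = 1) : Irreducible f := by
  refine ⟨fun hu => ?_, fun a b hab => ?_⟩
  · rw [isUnit_iff_totalDegree_of_isReduced] at hu
    omega
  · have hne : a * b ≠ 0 := fun h0 => by rw [← hab] at h0; rw [h0, totalDegree_zero] at h; omega
    have hd := totalDegree_mul_of_isDomain (left_ne_zero_of_mul hne) (right_ne_zero_of_mul hne)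
    rw [← hab, h] at hd
    have hunit : ∀ c : MvPolynomial σ K, c ≠ 0 → c.totalDegree = 0 → IsUnit c := fun c hc hc0 => by
      rw [totalDegree_eq_zero_iff_eq_C] at hc0
      rw [hc0]
      refine (isUnit_iff_ne_zero.mpr fun h0 => hc ?_).map C
      rw [hc0, h0, map_zero]
    rcases Nat.eq_zero_or_pos a.totalDegree with ha | ha
    · exact Or.inl (hunit a (left_ne_zero_of_mul hne) ha)
    · exact Or.inr (hunit b (right_ne_zero_of_mul hne) (by omega))

/-- Restriction to a line through the origin reads off the top component. -/
theorem coeff_line (c : σ → K) (f : MvPolynomial σ K) :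
    (aeval (fun i => Polynomial.C (c i) * Polynomial.X) f : Polynomial K).coeff f.totalDegree =
      eval c (homogeneousComponent f.totalDegree f) := by
  classical
  obtain ⟨d, hd⟩ : ∃ d, f.totalDegree = d := ⟨_, rfl⟩
  rw [hd, homogeneousComponent_apply, map_sum, Finset.sum_filter]
  conv_lhs => rw [f.as_sum, map_sum, Polynomial.finsetSum_coeff]
  refine Finset.sum_congr rfl fun e he => ?_
  rw [aeval_monomial]
  have : (e.prod fun i k => (Polynomial.C (c i) * Polynomial.X) ^ k) =
      Polynomial.C (e.prod fun i k => c i ^ k) * Polynomial.X ^ e.degree := by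
    simp only [Finsupp.prod, mul_pow, Finset.prod_mul_distrib, Finset.prod_pow_eq_pow_sum, map_prod, map_pow]
    rfl
  rw [this, ← mul_assoc, Polynomial.algebraMap_eq, ← map_mul, Polynomial.coeff_C_mul, Polynomial.coeff_X_pow]
  rw [eval_monomial]
  by_cases h : e.degree = d
  · rw [if_pos h, if_pos h.symm, mul_one]
  · rw [if_neg h, if_neg (Ne.symm h), mul_zero]

theorem natDegree_line_le (c : σ → K) (f : MvPolynomial σ K) :
    (aeval (fun i => Polynomial.C (c i) * Polynomial.X) f : Polynomial K).natDegree ≤ f.totalDegree := by
  classical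
  conv_lhs => rw [f.as_sum, map_sum]
  refine Polynomial.natDegree_sum_le_of_forall_le _ _ fun e he => ?_
  rw [aeval_monomial]
  have : (e.prod fun i k => (Polynomial.C (c i) * Polynomial.X) ^ k) =
      Polynomial.C (e.prod fun i k => c i ^ k) * Polynomial.X ^ e.degree := by
    simp only [Finsupp.prod, mul_pow, Finset.prod_mul_distrib, Finset.prod_pow_eq_pow_sum, map_prod, map_pow]
    rfl
  rw [this, ← mul_assoc, Polynomial.algebraMap_eq, ← map_mul]
  exact (Polynomial.natDegree_C_mul_X_pow_le _ _).trans (le_totalDegree he)

end Groth.L03.LWU
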