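import Groth.Agent.L03.LWU.Poly2
import Mathlib.Algebra.MvPolynomial.Equiv

/-!
# A linear change of coordinates making a polynomial monic in one variable
-/

set_option autoImplicit false
set_option linter.style.haveILetI false
universe u

open MvPolynomial

namespace Groth.L03.LWU

variable {K : Type u} [Field K] {M : ℕ}

/-- The substitution straightening the direction `c`. -/
noncomputable def straighten (c : Fin (M + 1) → K) (p : Fin (M + 1)) :
    MvPolynomial (Fin (M + 1)) K →ₐ[K] Polynomial (MvPolynomial (Fin M) K) :=
  (finSuccEquiv K M).toAlgHom.comp (aeval fun i =>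
    (if i = p then 0 else X (Equiv.swap 0 p i)) + C (c i) * X 0)

theorem straighten_X (c : Fin (M + 1) → K) (p i : Fin (M + 1)) :
    straighten c p (X i) = finSuccEquiv K M ((if i = p then 0 else X (Equiv.swap 0 p i)) + C (c i) * X 0) := by
  simp [straighten]

theorem exists_straighten_equiv (c : Fin (M + 1) → K) {p : Fin (M + 1)} (hp : c p ≠ 0) :
    ∃ e : MvPolynomial (Fin (M + 1)) K ≃+* Polynomial (MvPolynomial (Fin M) K), ∀ f, e f = straighten c p f := by
  classical
  let τ : MvPolynomial (Fin (M + 1)) K →ₐ[K] MvPolynomial (Fin (M + 1)) K :=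
    aeval fun i => (if i = p then 0 else X (Equiv.swap 0 p i)) + C (c i) * X 0
  let back : MvPolynomial (Fin (M + 1)) K →ₐ[K] MvPolynomial (Fin (M + 1)) K :=
    aeval fun l => if l = 0 then C (c p)⁻¹ * X p else
      X (Equiv.swap 0 p l) - C (c (Equiv.swap 0 p l) / c p) * X p
  have hne : ∀ i, i ≠ p → Equiv.swap 0 p i ≠ 0 := fun i hi h => hi (by
    have := congrArg (Equiv.swap 0 p) h
    rwa [Equiv.swap_apply_self, Equiv.swap_apply_left] at this)
  have h1 : τ.comp back = AlgHom.id K _ := by
    ext l : 1
    simp only [τ, back, AlgHom.comp_apply, aeval_X, AlgHom.id_apply]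
    split_ifs with hl
    · subst hl
      simp only [map_mul, aeval_C, aeval_X, ↓reduceIte, zero_add, algebraMap_eq]
      rw [← mul_assoc, ← map_mul, inv_mul_cancel₀ hp, map_one, one_mul]
    · set i := Equiv.swap 0 p l with hi
      have hip : i ≠ p := fun h => hl (by
        have := congrArg (Equiv.swap 0 p) h
        rwa [hi, Equiv.swap_apply_self, Equiv.swap_apply_right] at this)
      simp only [map_sub, map_mul, aeval_C, aeval_X, if_neg hip, ↓reduceIte, zero_add, algebraMap_eq]
      have hil : Equiv.swap 0 p i = l := by rw [hi, Equiv.swap_apply_self]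
      rw [hil, ← mul_assoc, ← map_mul, div_mul_cancel₀ _ hp]
      ring
  have h2 : back.comp τ = AlgHom.id K _ := by
    ext i : 1
    simp only [τ, back, AlgHom.comp_apply, aeval_X, AlgHom.id_apply, map_add, map_mul, aeval_C, ↓reduceIte,
      algebraMap_eq]
    split_ifs with hip
    · subst hip
      rw [map_zero, zero_add, ← mul_assoc, ← map_mul, mul_inv_cancel₀ hp, map_one, one_mul]
    · simp only [aeval_X, if_neg (hne i hip), Equiv.swap_apply_self]
      rw [← mul_assoc, ← map_mul, div_eq_mul_inv]
      ring
  exact ⟨((AlgEquiv.ofAlgHom τ back h1 h2).trans (finSuccEquiv K M)).toRingEquiv, fun f => rfl⟩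

theorem straighten_injective (c : Fin (M + 1) → K) {p : Fin (M + 1)} (hp : c p ≠ 0) :
    Function.Injective (straighten c p) := by
  obtain ⟨e, he⟩ := exists_straighten_equiv c hp
  intro a b h
  exact e.injective (by rw [he, he, h])

theorem map_straighten {K' : Type u} [Field K'] (φ : K →+* K') (c : Fin (M + 1) → K) (p : Fin (M + 1))
    (f : MvPolynomial (Fin (M + 1)) K) :
    (straighten c p f).map (MvPolynomial.map φ) = straighten (φ ∘ c) p (MvPolynomial.map φ f) := by
  have : (Polynomial.mapRingHom (MvPolynomial.map φ)).comp (straighten c p).toRingHom =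
      (straighten (φ ∘ c) p).toRingHom.comp (MvPolynomial.map φ) := by
    refine MvPolynomial.ringHom_ext (fun a => ?_) fun i => ?_
    · simp [straighten, finSuccEquiv_apply]
    · simp only [RingHom.comp_apply, AlgHom.toRingHom_eq_coe, RingHom.coe_coe, MvPolynomial.map_X, straighten_X,
        Function.comp_apply, map_add, map_mul, finSuccEquiv_apply, Polynomial.coe_mapRingHom]
      have hX : ∀ l : Fin (M + 1), Polynomial.map (MvPolynomial.map φ)
          (Fin.cases (Polynomial.X : Polynomial (MvPolynomial (Fin M) K)) (fun k => Polynomial.C (X k)) l) =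
          Fin.cases (Polynomial.X : Polynomial (MvPolynomial (Fin M) K')) (fun k => Polynomial.C (X k)) l := fun l => by
        cases l using Fin.cases <;> simp
      split_ifs <;> simp [hX]
  exact DFunLike.congr_fun this f

theorem totalDegree_straighten_coeff (c : Fin (M + 1) → K) (p : Fin (M + 1))
    (f : MvPolynomial (Fin (M + 1)) K) {i : ℕ} (hi : (straighten c p f).coeff i ≠ 0) :
    ((straighten c p f).coeff i).totalDegree + i ≤ f.totalDegree := by
  classical
  refine (totalDegree_coeff_finSuccEquiv_add_le _ _ hi).trans (totalDegree_aeval_le' _ (fun l => ?_) f)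
  refine (totalDegree_add _ _).trans (max_le ?_ ((totalDegree_mul _ _).trans (by simp)))
  split_ifs <;> simp

theorem natDegree_straighten_le (c : Fin (M + 1) → K) (p : Fin (M + 1)) (f : MvPolynomial (Fin (M + 1)) K) :
    (straighten c p f).natDegree ≤ f.totalDegree := by
  refine Polynomial.natDegree_le_iff_coeff_eq_zero.mpr fun i hi => ?_
  by_contra hne
  have := totalDegree_straighten_coeff c p f hne
  omega

theorem coeff_straighten (c : Fin (M + 1) → K) (p : Fin (M + 1)) (f : MvPolynomial (Fin (M + 1)) K) :
    (straighten c p f).coeff f.totalDegree = C (eval c (homogeneousComponent f.totalDegree f)) := by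
  classical
  set P := (straighten c p f).coeff f.totalDegree
  have hP : P = C (coeff 0 P) := by
    rcases eq_or_ne P 0 with h | h
    · rw [h]; simp
    · refine (totalDegree_eq_zero_iff_eq_C (p := P)).mp ?_
      have h1 : P.totalDegree + f.totalDegree ≤ f.totalDegree := totalDegree_straighten_coeff c p f h
      omega
  rw [hP, ← coeff_line]
  congr 1
  let Z : Polynomial (MvPolynomial (Fin M) K) →+* Polynomial K := Polynomial.mapRingHom MvPolynomial.constantCoeff
  have : Z.comp (straighten c p).toRingHom =
      (aeval (R := K) fun i => Polynomial.C (c i) * Polynomial.X).toRingHom := by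
    refine MvPolynomial.ringHom_ext (fun a => ?_) fun i => ?_
    · simp [Z, straighten, finSuccEquiv_apply]
    · simp only [Z, RingHom.comp_apply, AlgHom.toRingHom_eq_coe, RingHom.coe_coe, straighten_X, map_add, map_mul,
        finSuccEquiv_X_zero, aeval_X, Polynomial.coe_mapRingHom]
      have hz : Polynomial.map MvPolynomial.constantCoeff
          (finSuccEquiv K M (if i = p then 0 else X (Equiv.swap 0 p i))) = (0 : Polynomial K) := by
        split_ifs with hip
        · simp
        · have : Equiv.swap 0 p i ≠ 0 := fun h => hip (by
            have := congrArg (Equiv.swap 0 p) h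
            rwa [Equiv.swap_apply_self, Equiv.swap_apply_left] at this)
          obtain ⟨l, hl⟩ := Fin.exists_succ_eq.mpr this
          rw [← hl, finSuccEquiv_X_succ]
          simp
      simp only [hz]
      simp [finSuccEquiv_apply]
  have h := congrArg (fun Q : Polynomial K => Q.coeff f.totalDegree) (DFunLike.congr_fun this f)
  simp only [Z, RingHom.comp_apply, AlgHom.toRingHom_eq_coe, RingHom.coe_coe, Polynomial.coe_mapRingHom,
    Polynomial.coeff_map] at h
  exact h

theorem derivative_straighten (c : Fin (M + 1) → K) (p : Fin (M + 1)) (f : MvPolynomial (Fin (M + 1)) K) :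
    Polynomial.derivative (straighten c p f) = straighten c p (∑ i, C (c i) * pderiv i f) := by
  classical
  have hC : ∀ a : K, straighten c p (C a) = Polynomial.C (C a) := fun a => by simp [straighten]
  induction f using MvPolynomial.induction_on with
  | C a => simp [hC]
  | add q q' hq hq' => simp only [map_add, mul_add, Finset.sum_add_distrib, hq, hq']
  | mul_X q j hq =>
    have hd : Polynomial.derivative (straighten c p (X j)) = Polynomial.C (C (c j)) := by
      rw [straighten_X, map_add, map_mul, finSuccEquiv_X_zero]
      have hz : Polynomial.derivative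
          (finSuccEquiv K M (if j = p then 0 else X (Equiv.swap 0 p j))) =
            (0 : Polynomial (MvPolynomial (Fin M) K)) := by
        split_ifs with hip
        · simp
        · have : Equiv.swap 0 p j ≠ 0 := fun h => hip (by
            have := congrArg (Equiv.swap 0 p) h
            rwa [Equiv.swap_apply_self, Equiv.swap_apply_left] at this)
          obtain ⟨l, hl⟩ := Fin.exists_succ_eq.mpr this
          rw [← hl, finSuccEquiv_X_succ]
          simp
      rw [Polynomial.derivative_add, hz]
      simp [finSuccEquiv_apply]
    rw [map_mul, Polynomial.derivative_mul, hq, hd]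
    simp only [pderiv_mul, mul_add, Finset.sum_add_distrib, map_add]
    congr 1
    · rw [← map_mul, Finset.sum_mul]
      exact congrArg _ (Finset.sum_congr rfl fun i _ => by ring)
    · rw [Finset.sum_eq_single j (fun i _ hne => by rw [pderiv_X_of_ne hne.symm]; simp)
        (fun h => absurd (Finset.mem_univ j) h), pderiv_X_self, mul_one, map_mul, hC]
      ring

end Groth.L03.LWU
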