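import Mathlib.Algebra.MvPolynomial.SchwartzZippel
import Mathlib.Algebra.MvPolynomial.Nilpotent
import Mathlib.Algebra.MvPolynomial.Monad
import Mathlib.RingTheory.MvPolynomial.Homogeneous
import Mathlib.FieldTheory.IsAlgClosed.AlgebraicClosure
import Mathlib.RingTheory.Localization.FractionRing

/-!
# Polynomials in several variables: absolute irreducibility, zeros, affine substitutions
-/

set_option autoImplicit false
set_option linter.style.haveILetI false
universe u v w

open MvPolynomial
open scoped NNRat

namespace Groth.L03.LWU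

variable {σ : Type v} {τ : Type w} {F : Type u} [Field F]

/-- Irreducibility over an algebraic closure. -/
def AbsIrr (f : MvPolynomial σ F) : Prop :=
  Irreducible (map (algebraMap F (AlgebraicClosure F)) f)

theorem irreducible_of_map {K K' : Type*} [Field K] [Field K'] (φ : K →+* K') {p : MvPolynomial σ K}
    (h : Irreducible (map φ p)) : Irreducible p := by
  have hunit : ∀ a : MvPolynomial σ K, IsUnit (map φ a) → IsUnit a := fun a ha => by
    rw [isUnit_iff_totalDegree_of_isReduced] at ha ⊢
    constructor
    · have := ha.1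
      rw [coeff_map] at this
      exact isUnit_iff_ne_zero.mpr fun h0 => this.ne_zero (by rw [h0, map_zero])
    · rw [← ha.2, totalDegree, totalDegree, support_map_of_injective _ φ.injective]
  refine ⟨fun hu => h.not_isUnit (hu.map (map φ)), fun a b hab => ?_⟩
  rcases h.isUnit_or_isUnit (by rw [hab, map_mul]) with ha | hb
  · exact Or.inl (hunit a ha)
  · exact Or.inr (hunit b hb)

/-- Irreducibility over an algebraically closed field descends to the algebraic closure of a subfield. -/
theorem absIrr_of_map {K : Type u} [Field K] [IsAlgClosed K] (φ : F →+* K) {f : MvPolynomial σ F}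
    (h : Irreducible (map φ f)) : AbsIrr f := by
  letI := φ.toAlgebra
  let ψ : AlgebraicClosure F →ₐ[F] K := IsAlgClosed.lift
  refine irreducible_of_map ψ.toRingHom ?_
  rw [map_map]
  exact (ψ.comp_algebraMap).symm ▸ h

theorem AbsIrr.irreducible {f : MvPolynomial σ F} (h : AbsIrr f) : Irreducible f :=
  irreducible_of_map _ h

theorem AbsIrr.irreducible_finite {f : MvPolynomial σ F} (h : AbsIrr f) (E : Type u) [Field E] [Algebra F E]
    [Algebra.IsAlgebraic F E] : Irreducible (map (algebraMap F E) f) := by
  let ψ : E →ₐ[F] AlgebraicClosure F := IsAlgClosed.lift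
  refine irreducible_of_map ψ.toRingHom ?_
  rw [map_map]
  exact (ψ.comp_algebraMap).symm ▸ h

theorem totalDegree_map {K : Type*} [Field K] (φ : F →+* K) (p : MvPolynomial σ F) :
    (map φ p).totalDegree = p.totalDegree := by
  rw [totalDegree, totalDegree, support_map_of_injective _ φ.injective]

/-- Substituting affine forms does not raise the degree. -/
theorem totalDegree_aeval_le {R S : Type*} [CommRing R] [CommRing S] [Algebra R S]
    (g : σ → MvPolynomial τ S) {c : ℕ} (hg : ∀ i, (g i).totalDegree ≤ c) (p : MvPolynomial σ R) :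
    (aeval g p).totalDegree ≤ c * p.totalDegree := by
  classical
  rw [aeval_def, eval₂_eq]
  refine (totalDegree_finsetSum _ _).trans (Finset.sup_le fun d hd => ?_)
  refine (totalDegree_mul _ _).trans ?_
  rw [show (algebraMap R (MvPolynomial τ S)) (p.coeff d) = C (algebraMap R S (p.coeff d)) from rfl, totalDegree_C, zero_add]
  refine (totalDegree_finsetProd _ _).trans ?_
  calc ∑ i ∈ d.support, (g i ^ d i).totalDegree ≤ ∑ i ∈ d.support, d i * c :=
        Finset.sum_le_sum fun i _ => (totalDegree_pow _ _).trans (Nat.mul_le_mul_left _ (hg i))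
    _ = c * d.sum fun _ e => e := by rw [← Finset.sum_mul, mul_comm]; rfl
    _ ≤ c * p.totalDegree := Nat.mul_le_mul_left _ (le_totalDegree hd)

theorem totalDegree_aeval_le' {R S : Type*} [CommRing R] [CommRing S] [Algebra R S]
    (g : σ → MvPolynomial τ S) (hg : ∀ i, (g i).totalDegree ≤ 1) (p : MvPolynomial σ R) :
    (aeval g p).totalDegree ≤ p.totalDegree := (totalDegree_aeval_le g hg p).trans_eq (one_mul _)

/-- Zeros of a nonzero polynomial, in `Fin n` variables. -/
theorem card_zeros_fin_le [Finite F] {n : ℕ} {p : MvPolynomial (Fin n) F} (hp : p ≠ 0) :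
    Nat.card {v : Fin n → F // eval v p = 0} * Nat.card F ≤ p.totalDegree * Nat.card F ^ n := by
  classical
  haveI := Fintype.ofFinite F
  have h := schwartz_zippel_totalDegree hp (Finset.univ : Finset F)
  rw [Fintype.piFinset_univ, Finset.card_univ] at h
  have hc : Nat.card {v : Fin n → F // eval v p = 0} = (Finset.univ.filter fun v : Fin n → F => eval v p = 0).card := by
    rw [Nat.card_eq_fintype_card, Fintype.card_subtype]
  rw [hc, Nat.card_eq_fintype_card]
  have hq : (0 : ℚ≥0) < (Fintype.card F : ℚ≥0) := Nat.cast_pos.mpr Fintype.card_pos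
  rw [div_le_div_iff₀ (pow_pos hq _) hq] at h
  exact_mod_cast h

/-- Zeros of a nonzero polynomial. -/
theorem card_zeros_le [Finite F] [Finite σ] {p : MvPolynomial σ F} (hp : p ≠ 0) :
    Nat.card {v : σ → F // eval v p = 0} * Nat.card F ≤ p.totalDegree * Nat.card F ^ Nat.card σ := by
  let e := Finite.equivFin σ
  have h := card_zeros_fin_le (p := rename e p)
    ((map_ne_zero_iff _ (rename_injective _ e.injective)).mpr hp)
  have hd : (rename e p).totalDegree = p.totalDegree :=
    le_antisymm (totalDegree_rename_le _ _) (by
      conv_lhs => rw [show p = rename e.symm (rename e p) by rw [rename_rename]; simp]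
      exact totalDegree_rename_le _ _)
  rw [hd] at h
  refine le_of_eq_of_le ?_ h
  congr 1
  refine Nat.card_congr ((Equiv.arrowCongr e (Equiv.refl F)).subtypeEquiv fun v => ?_)
  rw [eval_rename]
  simp [Function.comp_def]

theorem exists_eval_ne_zero [Finite F] [Finite σ] {p : MvPolynomial σ F} (hp : p ≠ 0)
    (hq : p.totalDegree < Nat.card F) : ∃ v : σ → F, eval v p ≠ 0 := by
  by_contra! h
  have hc : Nat.card {v : σ → F // eval v p = 0} = Nat.card F ^ Nat.card σ := by
    rw [← Nat.card_fun]
    exact Nat.card_congr (Equiv.subtypeUnivEquiv h)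
  have h1 := card_zeros_le hp
  rw [hc, mul_comm] at h1
  exact absurd (Nat.le_of_mul_le_mul_right h1 (pow_pos Nat.card_pos _)) (not_le.mpr hq)

end Groth.L03.LWU
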