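import Groth.Agent.L16.Hyperplane.GenericLine
import Groth.Agent.L03.LWU.Crit
import Groth.Agent.L03.LWU.Coord
import Mathlib.RingTheory.MvPolynomial.Localization
import Mathlib.RingTheory.AlgebraicIndependent.AlgebraicClosure
import Mathlib.RingTheory.Ideal.Quotient.Basic
import Mathlib.Algebra.MvPolynomial.Funext

/-!
# Bertini for a generic hyperplane section of a hypersurface
-/

set_option autoImplicit false
set_option linter.style.haveILetI false
universe u

open MvPolynomial

namespace Groth.L03.LWU

open Groth.L16.Hyper (adj SepClosedIn)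

variable {K : Type u} [Field K]

/-- The values of the coordinates on the hyperplane with parameters `b`. -/
noncomputable def hypVals {R : Type u} [CommRing R] {N : ℕ} (b : Option (Fin N) → R) :
    Fin (N + 1) → MvPolynomial (Fin N) R :=
  Fin.lastCases (C (b none) + ∑ i, C (b (some i)) * X i) X

theorem transcendental_adj {M : Type u} [Field M] {k : Subfield M} {ι : Type*} {v : ι → M}
    (h : AlgebraicIndependent k v) {s : Set ι} {i : ι} (hi : i ∉ s) :
    Transcendental (adj k (v '' s)) (v i) := by
  have h2 : Transcendental (IntermediateField.adjoin k (v '' s)) (v i) :=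
    IntermediateField.transcendental_adjoin_iff.mpr (h.transcendental_adjoin hi)
  rintro ⟨p, hp, hp0⟩
  let j : adj k (v '' s) →+* IntermediateField.adjoin k (v '' s) :=
    { toFun := fun z => ⟨z.1, Groth.L16.Hyper.mem_adj_iff.mp z.2⟩
      map_zero' := rfl, map_one' := rfl, map_add' := fun _ _ => rfl, map_mul' := fun _ _ => rfl }
  refine h2 ⟨p.map j, (Polynomial.map_ne_zero_iff j.injective).mpr hp, ?_⟩
  rw [Polynomial.aeval_def, Polynomial.eval₂_map]
  exact hp0

theorem algebraicIndependent_subfield {k' M : Type u} [Field k'] [Field M] [Algebra k' M] {ι : Type*} {v : ι → M}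
    (h : AlgebraicIndependent k' v) : AlgebraicIndependent (algebraMap k' M).fieldRange v := by
  let e : k' ≃+* (algebraMap k' M).fieldRange := RingEquiv.ofBijective (algebraMap k' M).rangeRestrictField
    ⟨(algebraMap k' M).rangeRestrictField.injective, fun z => by
      obtain ⟨c, hc⟩ := z.2
      exact ⟨c, Subtype.ext hc⟩⟩
  rw [algebraicIndependent_iff] at h ⊢
  intro p hp
  have h0 := h (MvPolynomial.map e.symm.toRingHom p) (by
    rw [aeval_def, eval₂_map, ← hp, aeval_def]
    congr 1
    ext z
    change algebraMap k' M (e.symm z) = (z : M)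
    exact congrArg Subtype.val (e.apply_symm_apply z))
  exact map_injective _ e.symm.injective (h0.trans (map_zero _).symm)

theorem isSeparable_transfer {F M' M : Type u} [Field F] [Field M'] [Field M] [Algebra F M'] (φ : M' →+* M)
    {F0 : Subfield M} (hF : ∀ c : F, φ (algebraMap F M' c) ∈ F0) {a : M'} (hs : IsSeparable F a) :
    IsSeparable F0 (φ a) := by
  let j : F →+* F0 := (φ.comp (algebraMap F M')).codRestrict F0 hF
  refine Groth.L16.Hyper.isSeparable_of_aeval ((minpoly F a).map j) (Polynomial.Separable.map hs) ?_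
  rw [Polynomial.aeval_def, Polynomial.eval₂_map]
  have e : (algebraMap F0 M).comp j = φ.comp (algebraMap F M') := rfl
  rw [e, ← Polynomial.hom_eval₂, ← Polynomial.aeval_def, minpoly.aeval, map_zero]

theorem degreeOf_zero_iff_notMem_vars {σ : Type*} {R : Type*} [CommSemiring R] {p : MvPolynomial σ R} {i : σ} :
    p.degreeOf i = 0 ↔ i ∉ p.vars := by
  simp [degreeOf_eq_sup, mem_vars_iff_mem_support]

/-- The chain rule on a hyperplane. -/
theorem pderiv_hypVals {F : Type u} [CommRing F] [Algebra K F] {N : ℕ} (b : Option (Fin N) → F) (i : Fin N)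
    (f : MvPolynomial (Fin (N + 1)) K) :
    pderiv i (aeval (hypVals b) f) = aeval (hypVals b) (pderiv i.castSucc f) +
      C (b (some i)) * aeval (hypVals b) (pderiv (Fin.last N) f) := by
  induction f using MvPolynomial.induction_on with
  | C a => simp [show algebraMap K (MvPolynomial (Fin N) F) a = C (algebraMap K F a) from rfl]
  | add p q hp hq => simp only [map_add, hp, hq]; ring
  | mul_X p l hp =>
    have h1 : pderiv i (hypVals b l) = aeval (hypVals b) (pderiv i.castSucc (X l) : MvPolynomial (Fin (N + 1)) K) +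
        C (b (some i)) * aeval (hypVals b) (pderiv (Fin.last N) (X l) : MvPolynomial (Fin (N + 1)) K) := by
      refine Fin.lastCases ?_ (fun l => ?_) l
      · simp only [hypVals, Fin.lastCases_last, pderiv_X_self, pderiv_X_of_ne (Fin.castSucc_ne_last i).symm,
          map_add, pderiv_C, map_sum, pderiv_mul, zero_mul, zero_add, map_zero, map_one, mul_one]
        rw [Finset.sum_eq_single i (fun l _ hl => by rw [pderiv_X_of_ne hl, mul_zero])
          (fun h => absurd (Finset.mem_univ i) h), pderiv_X_self, mul_one]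
      · simp only [hypVals, Fin.lastCases_castSucc, pderiv_X_of_ne (Fin.castSucc_ne_last l), map_zero, mul_zero,
          add_zero]
        by_cases hl : l = i
        · subst hl; simp
        · rw [pderiv_X_of_ne hl, pderiv_X_of_ne (fun h => hl (Fin.castSucc_injective _ h)), map_zero]
    simp only [map_mul, pderiv_mul, map_add, hp, aeval_X, h1]
    ring

set_option maxHeartbeats 3200000 in
theorem step_general [IsAlgClosed K] {M : ℕ} (hM : 1 ≤ M) {f : MvPolynomial (Fin (M + 2)) K} (hf : Irreducible f)
    {i0 : Fin (M + 1)} (hi0 : f.degreeOf i0.castSucc ≠ 0) :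
    ∃ (Ω : Type u) (_ : Field Ω) (_ : IsAlgClosed Ω) (_ : Algebra K Ω) (b : Option (Fin (M + 1)) → Ω),
      AlgebraicIndependent K b ∧ Irreducible (aeval (hypVals b) f) := by
  classical
  let A := MvPolynomial (Fin (M + 2)) K ⧸ Ideal.span {f}
  haveI hprime : (Ideal.span {f} : Ideal (MvPolynomial (Fin (M + 2)) K)).IsPrime :=
    (Ideal.span_singleton_prime hf.ne_zero).mpr hf.prime
  let L0 := FractionRing A
  let Mf := FractionRing (MvPolynomial (Option (Fin (M + 1))) L0)
  have hind : AlgebraicIndependent L0 (fun o => algebraMap (MvPolynomial (Option (Fin (M + 1))) L0) Mf (X o)) := by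
    rw [algebraicIndependent_iff_injective_aeval]
    have : (aeval fun o => algebraMap (MvPolynomial (Option (Fin (M + 1))) L0) Mf (X o) : (MvPolynomial (Option (Fin (M + 1))) L0) →ₐ[L0] Mf) = IsScalarTower.toAlgHom L0 (MvPolynomial (Option (Fin (M + 1))) L0) Mf := by
      ext o; simp
    rw [this]
    exact IsFractionRing.injective (MvPolynomial (Option (Fin (M + 1))) L0) Mf
  let V : Fin (M + 1) → Mf := fun i => algebraMap (MvPolynomial (Option (Fin (M + 1))) L0) Mf (X (some i))
  let s' : Mf := algebraMap (MvPolynomial (Option (Fin (M + 1))) L0) Mf (X none)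
  let x0 : Fin (M + 2) → L0 := fun i => algebraMap A L0 (Ideal.Quotient.mk _ (X i))
  let x : Fin (M + 2) → Mf := fun i => algebraMap L0 Mf (x0 i)
  have hx0 : ∀ q : MvPolynomial (Fin (M + 2)) K, aeval x0 q = algebraMap A L0 (Ideal.Quotient.mk _ q) := fun q => by
    have : (aeval x0 : MvPolynomial (Fin (M + 2)) K →ₐ[K] L0) =
        (IsScalarTower.toAlgHom K A L0).comp (Ideal.Quotient.mkₐ K _) := by ext i; simp [x0, A]
    exact DFunLike.congr_fun this q
  have hker : ∀ q : MvPolynomial (Fin (M + 2)) K, aeval x0 q = 0 ↔ f ∣ q := fun q => by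
    rw [hx0, map_eq_zero_iff _ (IsFractionRing.injective A L0), Ideal.Quotient.eq_zero_iff_mem,
      Ideal.mem_span_singleton]
  have hnodiv : ∀ q : MvPolynomial (Fin (M + 2)) K, q ≠ 0 → q.degreeOf i0.castSucc = 0 → aeval x0 q ≠ 0 :=
    fun q hq hq0 h => by
      obtain ⟨w, hw⟩ := (hker q).mp h
      have hw0 : w ≠ 0 := fun h0 => hq (by rw [hw, h0, mul_zero])
      rw [hw, degreeOf_mul_eq hf.ne_zero hw0] at hq0
      exact hi0 (by omega)
  -- the two coordinates
  haveI : Nontrivial (Fin (M + 1)) := by rw [Fin.nontrivial_iff_two_le]; omega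
  obtain ⟨j, hj⟩ := exists_ne i0
  let pr : Bool → Fin (M + 2) := fun t => if t then j.castSucc else Fin.last (M + 1)
  have hpr : Function.Injective pr := by
    intro a b h
    cases a <;> cases b <;> simp only [pr, Bool.false_eq_true, if_false, if_true] at h ⊢
    · exact absurd h.symm (Fin.castSucc_ne_last j)
    · exact absurd h (Fin.castSucc_ne_last j)
  have hpr0 : i0.castSucc ∉ Set.range pr := by
    rintro ⟨t, ht⟩
    cases t <;> simp only [pr, Bool.false_eq_true, if_false, if_true] at ht
    · exact Fin.castSucc_ne_last i0 ht.symm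
    · exact hj (Fin.castSucc_injective _ ht)
  have hpair : AlgebraicIndependent K (x ∘ pr) := by
    rw [algebraicIndependent_iff]
    intro q hq
    by_contra hne
    refine hnodiv (rename pr q) ((map_ne_zero_iff _ (rename_injective _ hpr)).mpr hne) ?_ ?_
    · by_contra h
      rw [degreeOf_zero_iff_notMem_vars, not_not] at h
      obtain ⟨t, -, ht⟩ := Finset.mem_image.mp (vars_rename pr q h)
      exact hpr0 ⟨t, ht⟩
    · rw [aeval_rename]
      refine (algebraMap L0 Mf).injective ?_
      rw [map_zero, ← hq, ← aeval_algebraMap_apply]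
      rfl
  let kS : Subfield Mf := (algebraMap K Mf).fieldRange
  let LS : Subfield Mf := (algebraMap L0 Mf).fieldRange
  have hkS : ∀ c : K, algebraMap K Mf c ∈ LS := fun c =>
    ⟨algebraMap K L0 c, (IsScalarTower.algebraMap_apply K L0 Mf c).symm⟩
  have hk : SepClosedIn kS LS := by
    refine ⟨fun z ⟨c, hc⟩ => hc ▸ hkS c, fun z _ hz => ?_⟩
    letI : Algebra K kS := (algebraMap K Mf).rangeRestrictField.toAlgebra
    haveI : Algebra.IsAlgebraic K kS := ⟨fun w => by
      obtain ⟨c, hc⟩ := w.2
      have : w = algebraMap K kS c := Subtype.ext (hc.symm.trans rfl)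
      rw [this]; exact isAlgebraic_algebraMap c⟩
    haveI : IsScalarTower K kS Mf := IsScalarTower.of_algebraMap_eq fun _ => rfl
    have hzK : IsIntegral K z := isIntegral_trans z hz.isIntegral
    have hdeg := IsAlgClosed.degree_eq_one_of_irreducible K (minpoly.irreducible hzK)
    have hmon := minpoly.monic hzK
    have h1 := minpoly.aeval K z
    rw [Polynomial.eq_X_add_C_of_degree_eq_one hdeg, hmon.leadingCoeff, map_add, map_one, one_mul,
      Polynomial.aeval_X, Polynomial.aeval_C] at h1
    exact ⟨-(minpoly K z).coeff 0, by rw [map_neg]; linear_combination -h1⟩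
  let S : Finset (Fin (M + 1)) := Finset.univ.erase j
  have hindS := algebraicIndependent_subfield hind
  have hv : ∀ i ∈ S, Transcendental (adj LS (V '' ((S : Set (Fin (M + 1))) \ {i}))) (V i) := fun i _ => by
    have := transcendental_adj hindS (s := some '' ((S : Set (Fin (M + 1))) \ {i})) (i := some i)
      (by rintro ⟨l, hl, hli⟩; exact hl.2 (Option.some_injective _ hli))
    rw [Set.image_image] at this
    exact this
  have hs : Transcendental (adj LS (V '' (S : Set (Fin (M + 1))))) (V j) := by
    have := transcendental_adj hindS (s := some '' (S : Set (Fin (M + 1)))) (i := some j)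
      (by rintro ⟨l, hl, hli⟩; exact Finset.ne_of_mem_erase hl (Option.some_injective _ hli))
    rw [Set.image_image] at this
    exact this
  have hs' : Transcendental (adj (adj LS (V '' (S : Set (Fin (M + 1))))) {V j}) s' := by
    have := transcendental_adj hindS (s := some '' (S : Set (Fin (M + 1))) ∪ {some j}) (i := none)
      (by simp)
    rw [Set.image_union, Set.image_image, Set.image_singleton, ← Groth.L16.Hyper.adj_adj] at this
    exact this
  have hindk := algebraicIndependent_subfield hpair
  have hxt : Transcendental kS (x j.castSucc) := hindk.transcendental true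
  have hyt : Transcendental (adj kS {x j.castSucc}) (x (Fin.last (M + 1))) := by
    have := transcendental_adj hindk (s := {true}) (i := false) (by simp)
    rw [Set.image_singleton] at this
    exact this
  have hmain := Groth.L16.Hyper.sepClosedIn_hyperplane (k := kS) (L := LS) S V (fun i => x i.castSucc)
    (x := x j.castSucc) (y := x (Fin.last (M + 1))) (s := V j) (s' := s') hk
    ⟨_, rfl⟩ ⟨_, rfl⟩ (fun i _ => ⟨_, rfl⟩) hxt hyt hv hs hs'
  set α : Mf := (x (Fin.last (M + 1)) - ∑ i ∈ S, V i * x i.castSucc) - V j * x j.castSucc with hαdef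
  set F0 := adj (adj kS (V '' (S : Set (Fin (M + 1))))) {V j, α}
  set M0 := adj (adj LS (V '' (S : Set (Fin (M + 1))))) {V j}
  have hαsum : α + ∑ i, V i * x i.castSucc = x (Fin.last (M + 1)) := by
    rw [hαdef, ← Finset.add_sum_erase _ _ (Finset.mem_univ j)]
    ring
  -- the field of parameters
  let bM : Option (Fin (M + 1)) → Mf := fun o => o.elim α V
  -- the change of variables
  let bR : Option (Fin (M + 1)) → (MvPolynomial (Option (Fin (M + 1))) K) := fun o => X o
  let Ψ : (MvPolynomial (Fin (M + 1) ⊕ Fin (M + 2)) K) →ₐ[K] (MvPolynomial (Fin (M + 1)) (MvPolynomial (Option (Fin (M + 1))) K)) := aeval (Sum.elim (fun i => C (bR (some i))) (hypVals bR))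
  let Ψi : (MvPolynomial (Fin (M + 1)) (MvPolynomial (Option (Fin (M + 1))) K)) →+* (MvPolynomial (Fin (M + 1) ⊕ Fin (M + 2)) K) := eval₂Hom ((aeval fun o => o.elim
    (X (Sum.inr (Fin.last (M + 1))) - ∑ i, X (Sum.inl i) * X (Sum.inr i.castSucc)) fun i => X (Sum.inl i) :
      (MvPolynomial (Option (Fin (M + 1))) K) →ₐ[K] (MvPolynomial (Fin (M + 1) ⊕ Fin (M + 2)) K)).toRingHom) fun i => X (Sum.inr i.castSucc)
  have hΨ : ∀ t : (MvPolynomial (Fin (M + 1)) (MvPolynomial (Option (Fin (M + 1))) K)), Ψ (Ψi t) = t := by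
    intro t
    have : (Ψ.toRingHom.comp Ψi) = RingHom.id (MvPolynomial (Fin (M + 1)) (MvPolynomial (Option (Fin (M + 1))) K)) := by
      refine MvPolynomial.ringHom_ext (fun r => ?_) fun i => ?_
      · simp only [RingHom.comp_apply, Ψi, eval₂Hom_C, RingHom.id_apply]
        have : Ψ.comp (aeval fun o => o.elim
            (X (Sum.inr (Fin.last (M + 1))) - ∑ i, X (Sum.inl i) * X (Sum.inr i.castSucc)) fun i => X (Sum.inl i)) =
            IsScalarTower.toAlgHom K (MvPolynomial (Option (Fin (M + 1))) K) (MvPolynomial (Fin (M + 1)) (MvPolynomial (Option (Fin (M + 1))) K)) := by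
          ext o : 1
          cases o with
          | none =>
            simp only [AlgHom.comp_apply, aeval_X, Option.elim_none, map_sub, map_sum, map_mul, Ψ, Sum.elim_inr,
              Sum.elim_inl, hypVals, Fin.lastCases_last, Fin.lastCases_castSucc, add_sub_cancel_right]
            rfl
          | some i => simp [Ψ, bR]
        exact DFunLike.congr_fun this r
      · simp [Ψi, Ψ, hypVals]
    exact DFunLike.congr_fun this t
  have hΨi : ∀ w : (MvPolynomial (Fin (M + 1) ⊕ Fin (M + 2)) K), Ψi (Ψ w) = w := by
    intro w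
    have : Ψi.comp Ψ.toRingHom = RingHom.id (MvPolynomial (Fin (M + 1) ⊕ Fin (M + 2)) K) := by
      refine MvPolynomial.ringHom_ext (fun c => ?_) fun l => ?_
      · simp only [RingHom.comp_apply, AlgHom.toRingHom_eq_coe, RingHom.coe_coe, RingHom.id_apply, Ψ, aeval_C]
        change Ψi (C (C c)) = C c
        simp [Ψi]
      · rcases l with i | i
        · simp [Ψi, Ψ, bR]
        · refine Fin.lastCases ?_ (fun i => ?_) i
          · simp [Ψi, Ψ, bR, hypVals]
          · simp [Ψi, Ψ, hypVals]
    exact DFunLike.congr_fun this w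
  let eW : (MvPolynomial (Fin (M + 1) ⊕ Fin (M + 2)) K) →ₐ[K] Mf := aeval (Sum.elim V x)
  let eT : (MvPolynomial (Fin (M + 1)) (MvPolynomial (Option (Fin (M + 1))) K)) →+* Mf := eval₂Hom (aeval bM : (MvPolynomial (Option (Fin (M + 1))) K) →ₐ[K] Mf).toRingHom fun i => x i.castSucc
  have heT : ∀ w : (MvPolynomial (Fin (M + 1) ⊕ Fin (M + 2)) K), eT (Ψ w) = eW w := by
    intro w
    have : eT.comp Ψ.toRingHom = eW.toRingHom := by
      refine MvPolynomial.ringHom_ext (fun c => ?_) fun l => ?_
      · simp only [RingHom.comp_apply, AlgHom.toRingHom_eq_coe, RingHom.coe_coe, Ψ, eW, aeval_C]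
        change eT (C (C c)) = _
        simp [eT]
      · rcases l with i | i
        · simp [eT, eW, Ψ, bR, bM]
        · refine Fin.lastCases ?_ (fun i => ?_) i
          · simp [eT, eW, Ψ, bR, bM, hypVals, hαsum]
          · simp [eT, eW, Ψ, hypVals]
    exact DFunLike.congr_fun this w
  have hkerW : ∀ w : (MvPolynomial (Fin (M + 1) ⊕ Fin (M + 2)) K), eW w = 0 ↔ rename Sum.inr f ∣ w := by
    intro w
    let e := sumAlgEquiv K (Fin (M + 1)) (Fin (M + 2))
    let μ : MvPolynomial (Fin (M + 1)) (MvPolynomial (Fin (M + 2)) K) →+* MvPolynomial (Fin (M + 1)) L0 :=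
      MvPolynomial.map (aeval x0).toRingHom
    let ev : MvPolynomial (Fin (M + 1)) L0 →ₐ[L0] Mf := aeval V
    have hev : Function.Injective ev :=
      algebraicIndependent_iff_injective_aeval.mp (hind.comp some (Option.some_injective _))
    have hcomp : ∀ w, eW w = ev (μ (e w)) := fun w => by
      have : eW.toRingHom = (ev.toRingHom.comp μ).comp e.toAlgHom.toRingHom := by
        refine MvPolynomial.ringHom_ext (fun c => ?_) fun l => ?_
        · simp only [AlgHom.toRingHom_eq_coe, RingHom.coe_coe, RingHom.comp_apply, eW, aeval_C, μ, ev]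
          change algebraMap K Mf c = _
          rw [show e.toAlgHom (C c) = C (C c) from e.commutes c]
          simp [← IsScalarTower.algebraMap_apply]
        · rcases l with i | i <;> simp [eW, μ, ev, e, x]
      exact DFunLike.congr_fun this w
    rw [hcomp, map_eq_zero_iff _ hev]
    have he : e (rename Sum.inr f) = C f := by
      have : (e.toAlgHom.comp (rename Sum.inr)) = IsScalarTower.toAlgHom K (MvPolynomial (Fin (M + 2)) K) _ := by
        ext i : 1
        simp [e]
      exact DFunLike.congr_fun this f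
    rw [← map_dvd_iff e, he]
    exact (C_dvd_iff_map_hom_eq_zero _ f (fun r => hker r) _).symm
  let gR : (MvPolynomial (Fin (M + 1)) (MvPolynomial (Option (Fin (M + 1))) K)) := Ψ (rename Sum.inr f)
  have hgR : gR = aeval (hypVals bR) f := by
    simp only [gR, Ψ, aeval_rename, Sum.elim_comp_inr]
  have hkerT : ∀ t : (MvPolynomial (Fin (M + 1)) (MvPolynomial (Option (Fin (M + 1))) K)), eT t = 0 ↔ gR ∣ t := fun t => by
    rw [← hΨ t, heT, hkerW]
    refine ⟨map_dvd Ψ, fun h => ?_⟩
    have := map_dvd Ψi h
    rwa [hΨi, hΨi] at this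
  have hbM : AlgebraicIndependent K bM := by
    rw [algebraicIndependent_iff]
    intro r hr
    obtain ⟨c, hc⟩ := (hkerT (C r)).mp (by simpa [eT] using hr)
    by_contra hne
    -- the equation involves the coordinates
    have hgne : gR.totalDegree ≠ 0 := fun h0 => by
      rw [totalDegree_eq_zero_iff_eq_C] at h0
      have h1 := hi0
      refine h1 ?_
      have h2 : rename Sum.inr f = Ψi (C (coeff 0 gR)) := by rw [← h0, hΨi]
      by_contra hne'
      rw [degreeOf_zero_iff_notMem_vars, not_not] at hne'
      let kill : (MvPolynomial (Fin (M + 1) ⊕ Fin (M + 2)) K) →ₐ[K] MvPolynomial (Fin (M + 2)) K := aeval (Sum.elim (fun _ => 0) X)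
      have h3 := congrArg kill h2
      simp only [kill, aeval_rename, Sum.elim_comp_inr, aeval_X_left_apply] at h3
      have h4 : kill (Ψi (C (coeff 0 gR))) ∈
          Algebra.adjoin K ({X (Fin.last (M + 1))} : Set (MvPolynomial (Fin (M + 2)) K)) := by
        simp only [Ψi, eval₂Hom_C]
        induction coeff 0 gR using MvPolynomial.induction_on with
        | C a => simp only [AlgHom.toRingHom_eq_coe, RingHom.coe_coe, aeval_C, AlgHom.commutes]
                 exact Subalgebra.algebraMap_mem _ _
        | add p q hp hq => rw [map_add, map_add]; exact add_mem hp hq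
        | mul_X p o hp =>
          rw [map_mul, map_mul]
          refine mul_mem hp ?_
          cases o with
          | none => simp [kill]
          | some i => simp [kill]
      rw [← h3, Algebra.adjoin_singleton_eq_range_aeval] at h4
      obtain ⟨q, hq⟩ := h4
      change Polynomial.aeval _ q = f at hq
      rw [← hq, Polynomial.aeval_eq_sum_range] at hne'
      obtain ⟨l, -, hl⟩ := Finset.mem_biUnion.mp (vars_sum_subset _ _ hne')
      have hlv : (q.coeff l • (X (Fin.last (M + 1)) : MvPolynomial (Fin (M + 2)) K) ^ l).vars ⊆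
          {Fin.last (M + 1)} := by
        rw [smul_eq_C_mul]
        refine (vars_mul _ _).trans ?_
        rw [vars_C, Finset.empty_union]
        refine (vars_pow _ _).trans ?_
        rw [vars_X]
      exact Fin.castSucc_ne_last _ (Finset.mem_singleton.mp (hlv hl))
    have hc0 : c ≠ 0 := fun h0 => hne (C_injective _ _ (by rw [hc, h0, mul_zero, map_zero]))
    have hg0 : gR ≠ 0 := fun h0 => hgne (by rw [h0, totalDegree_zero])
    have := congrArg MvPolynomial.totalDegree hc
    rw [totalDegree_C, totalDegree_mul_of_isDomain hg0 hc0] at this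
    exact hgne (by omega)
  have hinjR : Function.Injective (aeval bM : (MvPolynomial (Option (Fin (M + 1))) K) →ₐ[K] Mf) := algebraicIndependent_iff_injective_aeval.mp hbM
  let F := FractionRing (MvPolynomial (Option (Fin (M + 1))) K)
  let ψ : F →ₐ[K] Mf := IsFractionRing.liftAlgHom hinjR
  have hψR : ∀ r : (MvPolynomial (Option (Fin (M + 1))) K), ψ (algebraMap (MvPolynomial (Option (Fin (M + 1))) K) F r) = aeval bM r := fun r => IsFractionRing.lift_algebraMap hinjR r
  have hbF0 : ∀ o, bM o ∈ F0 := fun o => by
    cases o with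
    | none => exact Groth.L16.Hyper.subset_adj _ _ (Or.inr rfl)
    | some i =>
      by_cases h : i = j
      · exact Groth.L16.Hyper.subset_adj _ _ (Or.inl (by rw [h]; rfl))
      · exact Groth.L16.Hyper.le_adj _ _ (Groth.L16.Hyper.subset_adj _ _
          ⟨i, Finset.mem_coe.mpr (Finset.mem_erase.mpr ⟨h, Finset.mem_univ i⟩), rfl⟩)
  have hψF0 : ∀ c : F, ψ c ∈ F0 := fun c => by
    obtain ⟨a, r, -, rfl⟩ := IsFractionRing.div_surjective (A := (MvPolynomial (Option (Fin (M + 1))) K)) c
    rw [map_div₀, hψR, hψR]
    have : ∀ r : (MvPolynomial (Option (Fin (M + 1))) K), aeval bM r ∈ F0 := fun r => by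
      induction r using MvPolynomial.induction_on with
      | C a => rw [aeval_C]; exact Groth.L16.Hyper.le_adj _ _ (Groth.L16.Hyper.le_adj _ _ ⟨a, rfl⟩)
      | add p q hp hq => rw [map_add]; exact add_mem hp hq
      | mul_X p o hp => rw [map_mul, aeval_X]; exact mul_mem hp (hbF0 o)
    exact div_mem (this a) (this r)
  have hF0ψ : F0 ≤ ψ.toRingHom.fieldRange := by
    refine Groth.L16.Hyper.adj_le_iff.mpr ⟨Groth.L16.Hyper.adj_le_iff.mpr ⟨?_, ?_⟩, ?_⟩
    · rintro z ⟨c, rfl⟩; exact ⟨algebraMap K F c, ψ.commutes c⟩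
    · rintro z ⟨i, -, rfl⟩
      exact ⟨algebraMap (MvPolynomial (Option (Fin (M + 1))) K) F (X (some i)), by change ψ _ = _; rw [hψR, aeval_X]; rfl⟩
    · rintro z (rfl | rfl)
      · exact ⟨algebraMap (MvPolynomial (Option (Fin (M + 1))) K) F (X (some j)), by change ψ _ = _; rw [hψR, aeval_X]; rfl⟩
      · exact ⟨algebraMap (MvPolynomial (Option (Fin (M + 1))) K) F (X none), by change ψ _ = _; rw [hψR, aeval_X]; rfl⟩
  have hFM : ∀ c : F, ψ c ∈ M0 := fun c => hmain.1 (hψF0 c)
  letI : Algebra F M0 := (ψ.toRingHom.codRestrict M0 hFM).toAlgebra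
  have hxM : ∀ i, x i ∈ M0 := fun i => Groth.L16.Hyper.le_adj _ _ (Groth.L16.Hyper.le_adj _ _ ⟨_, rfl⟩)
  let xM : Fin (M + 1) → M0 := fun i => ⟨x i.castSucc, hxM _⟩
  have hsc : ∀ a : M0, IsSeparable F a → a ∈ Set.range (algebraMap F M0) := fun a ha => by
    obtain ⟨c, hc⟩ := hF0ψ (hmain.2 _ a.2 (isSeparable_transfer M0.subtype hψF0 ha))
    exact ⟨c, Subtype.ext hc⟩
  -- the equation over the field of parameters
  let ρ : (MvPolynomial (Fin (M + 1)) (MvPolynomial (Option (Fin (M + 1))) K)) →+* MvPolynomial (Fin (M + 1)) F := MvPolynomial.map (algebraMap (MvPolynomial (Option (Fin (M + 1))) K) F)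
  have hρ : Function.Injective ρ := map_injective _ (IsFractionRing.injective (MvPolynomial (Option (Fin (M + 1))) K) F)
  set g := ρ gR with hgdef
  have hevF : ∀ t : (MvPolynomial (Fin (M + 1)) (MvPolynomial (Option (Fin (M + 1))) K)), ((aeval xM (ρ t) : M0) : Mf) = eT t := fun t => by
    have : (M0.subtype.comp (aeval xM : MvPolynomial (Fin (M + 1)) F →ₐ[F] M0).toRingHom).comp ρ = eT := by
      refine MvPolynomial.ringHom_ext (fun r => ?_) fun i => ?_
      · simp only [ρ, eT, RingHom.comp_apply, map_C, eval₂Hom_C, AlgHom.toRingHom_eq_coe, RingHom.coe_coe, aeval_C]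
        exact hψR r
      · simp [ρ, eT, xM]
    exact DFunLike.congr_fun this t
  have hkerF : ∀ Q : MvPolynomial (Fin (M + 1)) F, aeval xM Q = 0 ↔ g ∣ Q := by
    have hg0 : aeval xM g = (0 : M0) := Subtype.ext ((hevF gR).trans ((hkerT gR).mpr dvd_rfl))
    intro Q
    refine ⟨fun h => ?_, fun ⟨c, hc⟩ => by rw [hc, map_mul, hg0, zero_mul]⟩
    letI : Algebra (MvPolynomial (Fin (M + 1)) (MvPolynomial (Option (Fin (M + 1))) K)) (MvPolynomial (Fin (M + 1)) F) := ρ.toAlgebra
    haveI : IsLocalization ((nonZeroDivisors (MvPolynomial (Option (Fin (M + 1))) K)).map (C (σ := Fin (M + 1))))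
        (MvPolynomial (Fin (M + 1)) F) := MvPolynomial.isLocalization (nonZeroDivisors (MvPolynomial (Option (Fin (M + 1))) K)) F
    obtain ⟨⟨t, s⟩, hts⟩ := IsLocalization.surj ((nonZeroDivisors (MvPolynomial (Option (Fin (M + 1))) K)).map (C (σ := Fin (M + 1)))) Q
    obtain ⟨r, hr, hrs⟩ := s.2
    have hts' : Q * ρ (s : (MvPolynomial (Fin (M + 1)) (MvPolynomial (Option (Fin (M + 1))) K))) = ρ t := hts
    have ht : eT t = 0 := by rw [← hevF, ← hts', map_mul, h, zero_mul]; rfl
    obtain ⟨c, hc⟩ := (hkerT t).mp ht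
    have hu : IsUnit (ρ (s : (MvPolynomial (Fin (M + 1)) (MvPolynomial (Option (Fin (M + 1))) K)))) := by
      rw [← hrs]
      simp only [ρ, map_C]
      exact ((isUnit_iff_ne_zero).mpr ((map_ne_zero_iff _ (IsFractionRing.injective (MvPolynomial (Option (Fin (M + 1))) K) F)).mpr
        (nonZeroDivisors.ne_zero hr))).map C
    rw [hgdef, ← hu.dvd_mul_right, hts', hc, map_mul]
    exact dvd_mul_right _ _
  have hg_ne : g ≠ 0 := fun h0 => by
    have : (rename Sum.inr f : MvPolynomial (Fin (M + 1) ⊕ Fin (M + 2)) K) = 0 := by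
      refine (Function.LeftInverse.injective hΨi) ?_
      rw [map_zero]
      exact hρ (h0.trans (map_zero ρ).symm)
    exact hf.ne_zero ((map_eq_zero_iff _ (rename_injective _ Sum.inr_injective)).mp this)
  have hgprime : Prime g := by
    refine (Ideal.span_singleton_prime hg_ne).mp ?_
    have : (Ideal.span {g} : Ideal (MvPolynomial (Fin (M + 1)) F)) =
        RingHom.ker (aeval xM : MvPolynomial (Fin (M + 1)) F →ₐ[F] M0).toRingHom := by
      ext Q
      rw [Ideal.mem_span_singleton, RingHom.mem_ker]
      exact (hkerF Q).symm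
    rw [this]
    exact RingHom.ker_isPrime _
  -- the derivatives
  let bF : Option (Fin (M + 1)) → F := fun o => algebraMap (MvPolynomial (Option (Fin (M + 1))) K) F (X o)
  have hgF : g = aeval (hypVals bF) f := by
    rw [hgdef, hgR]
    have : ρ.comp (aeval (hypVals bR) : MvPolynomial (Fin (M + 2)) K →ₐ[K] (MvPolynomial (Fin (M + 1)) (MvPolynomial (Option (Fin (M + 1))) K))).toRingHom =
        (aeval (hypVals bF) : MvPolynomial (Fin (M + 2)) K →ₐ[K] MvPolynomial (Fin (M + 1)) F).toRingHom := by
      refine MvPolynomial.ringHom_ext (fun c => ?_) fun i => ?_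
      · simp only [RingHom.comp_apply, AlgHom.toRingHom_eq_coe, RingHom.coe_coe, aeval_C]
        change ρ (C (C c)) = C (algebraMap K F c)
        simp [ρ, IsScalarTower.algebraMap_apply K (MvPolynomial (Option (Fin (M + 1))) K) F c, MvPolynomial.algebraMap_eq]
      · refine Fin.lastCases ?_ (fun i => ?_) i <;> simp [hypVals, bR, bF, ρ]
    exact DFunLike.congr_fun this f
  have hderiv : ∀ i, pderiv i g = aeval (hypVals bF) (pderiv i.castSucc f) +
      C (bF (some i)) * aeval (hypVals bF) (pderiv (Fin.last (M + 1)) f) := fun i => by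
    rw [hgF]; exact pderiv_hypVals bF i f
  have hxeval : ∀ q : MvPolynomial (Fin (M + 2)) K,
      ((aeval xM (aeval (hypVals bF) q) : M0) : Mf) = algebraMap L0 Mf (aeval x0 q) := fun q => by
    have : (M0.subtype.comp (aeval xM : MvPolynomial (Fin (M + 1)) F →ₐ[F] M0).toRingHom).comp
        (aeval (hypVals bF) : MvPolynomial (Fin (M + 2)) K →ₐ[K] _).toRingHom =
        (algebraMap L0 Mf).comp (aeval x0 : MvPolynomial (Fin (M + 2)) K →ₐ[K] L0).toRingHom := by
      refine MvPolynomial.ringHom_ext (fun c => ?_) fun i => ?_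
      · simp only [RingHom.comp_apply, AlgHom.toRingHom_eq_coe, RingHom.coe_coe, aeval_C]
        rw [← IsScalarTower.algebraMap_apply]
        change (M0.subtype (aeval xM (C (algebraMap K F c)))) = _
        rw [aeval_C]
        exact ψ.commutes c
      · refine Fin.lastCases ?_ (fun i => ?_) i
        · have hb : ∀ o, ((algebraMap F M0 (bF o) : M0) : Mf) = bM o := fun o => (hψR (X o)).trans (aeval_X _ _)
          simp only [RingHom.comp_apply, AlgHom.toRingHom_eq_coe, RingHom.coe_coe, aeval_X, hypVals,
            Fin.lastCases_last, map_add, map_sum, map_mul, aeval_C, Subfield.subtype_apply]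
          rw [hb none]
          simp only [hb]
          exact hαsum
        · simp [hypVals, xM, x]
    exact DFunLike.congr_fun this q
  have hgd : ∃ i, pderiv i g ≠ 0 := by
    by_contra! h0
    obtain ⟨l, hl⟩ := exists_pderiv_ne_zero hf
    have hz : ∀ i, algebraMap L0 Mf (aeval x0 (pderiv i.castSucc f)) +
        V i * algebraMap L0 Mf (aeval x0 (pderiv (Fin.last (M + 1)) f)) = 0 := fun i => by
      have h1 := congrArg (fun p => ((aeval xM p : M0) : Mf)) ((hderiv i).symm.trans (h0 i))
      simp only [map_add, map_mul, aeval_C, map_zero, Subfield.coe_add, Subfield.coe_mul, Subfield.coe_zero,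
        hxeval] at h1
      rw [← show ((algebraMap F M0 (bF (some i)) : M0) : Mf) = V i from (hψR _).trans (aeval_X _ _)]
      exact h1
    have hz' : ∀ i : Fin (M + 1), aeval x0 (pderiv i.castSucc f) = 0 ∧ aeval x0 (pderiv (Fin.last (M + 1)) f) = 0 := fun i => by
      have h1 : aeval (fun o => algebraMap (MvPolynomial (Option (Fin (M + 1))) L0) Mf (X o)) (C (aeval x0 (pderiv i.castSucc f)) +
          C (aeval x0 (pderiv (Fin.last (M + 1)) f)) * X (some i) : (MvPolynomial (Option (Fin (M + 1))) L0)) = 0 := by
        rw [map_add, map_mul, aeval_C, aeval_C, aeval_X, mul_comm]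
        exact hz i
      have h2 := algebraicIndependent_iff.mp hind _ h1
      generalize aeval x0 (pderiv i.castSucc f) = A0 at h2 ⊢
      generalize aeval x0 (pderiv (Fin.last (M + 1)) f) = A1 at h2 ⊢
      have hne : (0 : Option (Fin (M + 1)) →₀ ℕ) ≠ Finsupp.single (some i) 1 :=
        (Finsupp.single_ne_zero.mpr one_ne_zero).symm
      have c1 := congrArg (coeff (Finsupp.single (some i) 1)) h2
      have c0 := congrArg (coeff 0) h2
      simp only [coeff_add, coeff_C, coeff_C_mul, coeff_X, coeff_zero, if_neg hne, if_neg hne.symm, if_true, mul_one,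
        mul_zero, zero_add, add_zero] at c1 c0
      exact ⟨c0, c1⟩
    have hl0 : aeval x0 (pderiv l f) = 0 := by
      refine Fin.lastCases ?_ (fun l => ?_) l
      · exact (hz' i0).2
      · exact (hz' l).1
    obtain ⟨c, hc⟩ := (hker _).mp hl0
    have h1 := totalDegree_pderiv_lt l hl
    rw [hc, totalDegree_mul_of_isDomain hf.ne_zero (fun h => hl (by rw [hc, h, mul_zero]))] at h1
    omega
  -- straighten
  haveI : Infinite F := Infinite.of_injective (algebraMap (MvPolynomial (Option (Fin (M + 1))) K) F) (IsFractionRing.injective (MvPolynomial (Option (Fin (M + 1))) K) F)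
  obtain ⟨i1, hi1⟩ := hgd
  obtain ⟨e1, he1⟩ := support_nonempty.mpr hi1
  let ℓ : MvPolynomial (Fin (M + 1)) F := ∑ i, C (coeff e1 (pderiv i g)) * X i
  have hℓ : ℓ ≠ 0 := fun h => by
    have := congrArg (coeff (Finsupp.single i1 1)) h
    simp only [ℓ, coeff_sum, coeff_C_mul, coeff_X, coeff_zero, Finsupp.single_left_inj one_ne_zero] at this
    simp [mem_support_iff.mp he1] at this
  obtain ⟨c, hc⟩ : ∃ c : Fin (M + 1) → F, eval c (homogeneousComponent g.totalDegree g * ℓ) ≠ 0 := by
    by_contra! h
    exact mul_ne_zero (homogeneousComponent_totalDegree_ne_zero hg_ne) hℓ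
      (MvPolynomial.funext fun v => by rw [h v, map_zero])
  rw [map_mul, mul_ne_zero_iff] at hc
  obtain ⟨p, hp⟩ : ∃ p, c p ≠ 0 := by
    by_contra! h
    refine hc.2 ?_
    simp [ℓ, h]
  obtain ⟨e, he⟩ := exists_straighten_equiv c hp
  set top := eval c (homogeneousComponent g.totalDegree g)
  set G : Polynomial (MvPolynomial (Fin M) F) := Polynomial.C (C top⁻¹) * straighten c p g with hG
  have hdpos : 0 < g.totalDegree := totalDegree_pos_of_irreducible hgprime.irreducible
  have hGcoeff : G.coeff g.totalDegree = 1 := by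
    rw [hG, Polynomial.coeff_C_mul, coeff_straighten, ← map_mul, inv_mul_cancel₀ hc.1, map_one]
  have hGnat : G.natDegree = g.totalDegree :=
    le_antisymm ((Polynomial.natDegree_C_mul_le _ _).trans (natDegree_straighten_le c p g))
      (Polynomial.le_natDegree_of_ne_zero (by rw [hGcoeff]; exact one_ne_zero))
  have hGm : G.Monic := by rw [Polynomial.Monic, Polynomial.leadingCoeff, hGnat, hGcoeff]
  have hGsep : Polynomial.derivative G ≠ 0 := by
    rw [hG, Polynomial.derivative_C_mul, derivative_straighten]
    refine mul_ne_zero (by simp [top, hc.1]) ((map_ne_zero_iff _ (straighten_injective c hp)).mpr fun h => ?_)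
    have := congrArg (coeff e1) h
    simp only [coeff_sum, coeff_C_mul, coeff_zero] at this
    refine hc.2 ?_
    simp only [ℓ, map_sum, map_mul, eval_C, eval_X]
    rw [← this]
    exact Finset.sum_congr rfl fun i _ => mul_comm _ _
  let E : Polynomial (MvPolynomial (Fin M) F) →+* M0 :=
    (aeval xM : MvPolynomial (Fin (M + 1)) F →ₐ[F] M0).toRingHom.comp e.symm.toRingHom
  let z : Fin M → M0 := fun i => E (Polynomial.C (X i))
  have hE : ∀ Q, Polynomial.eval₂ (aeval z).toRingHom (E Polynomial.X) Q = E Q := fun Q => by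
    have : Polynomial.eval₂RingHom (aeval z).toRingHom (E Polynomial.X) = E := by
      refine Polynomial.ringHom_ext' (MvPolynomial.ringHom_ext (fun a => ?_) fun i => ?_) ?_
      · simp only [RingHom.comp_apply, Polynomial.coe_eval₂RingHom, Polynomial.eval₂_C, AlgHom.toRingHom_eq_coe,
          RingHom.coe_coe, aeval_C, E, RingEquiv.toRingHom_eq_coe]
        have : e.symm (Polynomial.C (C a)) = C a := by
          rw [RingEquiv.symm_apply_eq, he]
          simp [straighten]
        rw [this, aeval_C]
      · simp [z]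
      · simp
    exact DFunLike.congr_fun this Q
  have hEker : ∀ Q, Polynomial.eval₂ (aeval z).toRingHom (E Polynomial.X) Q = 0 ↔ G ∣ Q := fun Q => by
    rw [hE]
    simp only [E, RingHom.comp_apply, AlgHom.toRingHom_eq_coe, RingHom.coe_coe, RingEquiv.toRingHom_eq_coe,
      hkerF]
    rw [← map_dvd_iff e, RingEquiv.apply_symm_apply, he, hG]
    exact ((isUnit_iff_ne_zero.mpr (inv_ne_zero hc.1)).map C).map Polynomial.C |>.mul_left_dvd.symm
  have hirr := irreducible_algClosure_of_sepClosed hGm (hGnat.symm ▸ hdpos) hGsep z (E Polynomial.X) hEker hsc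
  -- back to the algebraic closure
  refine ⟨AlgebraicClosure F, inferInstance, inferInstance, inferInstance,
    fun o => algebraMap F (AlgebraicClosure F) (bF o), ?_, ?_⟩
  · refine AlgebraicIndependent.map' (f := IsScalarTower.toAlgHom K F (AlgebraicClosure F)) (x := bF) ?_
      (algebraMap F _).injective
    rw [algebraicIndependent_iff_injective_aeval]
    have : (aeval bF : (MvPolynomial (Option (Fin (M + 1))) K) →ₐ[K] F) = IsScalarTower.toAlgHom K (MvPolynomial (Option (Fin (M + 1))) K) F := by ext o; simp [bF]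
    rw [this]
    exact IsFractionRing.injective (MvPolynomial (Option (Fin (M + 1))) K) F
  · obtain ⟨eΩ, heΩ⟩ := exists_straighten_equiv (algebraMap F (AlgebraicClosure F) ∘ c) (p := p)
      ((_root_.map_ne_zero _).mpr hp)
    have hmap : aeval (hypVals fun o => algebraMap F (AlgebraicClosure F) (bF o)) f =
        MvPolynomial.map (algebraMap F (AlgebraicClosure F)) g := by
      rw [hgF]
      have : (aeval (hypVals fun o => algebraMap F (AlgebraicClosure F) (bF o)) :
          MvPolynomial (Fin (M + 2)) K →ₐ[K] MvPolynomial (Fin (M + 1)) (AlgebraicClosure F)).toRingHom =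
          (MvPolynomial.map (algebraMap F (AlgebraicClosure F))).comp
            (aeval (hypVals bF) : MvPolynomial (Fin (M + 2)) K →ₐ[K] _).toRingHom := by
        refine MvPolynomial.ringHom_ext (fun a => ?_) fun i => ?_
        · simp only [RingHom.comp_apply, AlgHom.toRingHom_eq_coe, RingHom.coe_coe, aeval_C]
          change C (algebraMap K (AlgebraicClosure F) a) = MvPolynomial.map _ (C (algebraMap K F a))
          rw [map_C, ← IsScalarTower.algebraMap_apply]
        · refine Fin.lastCases ?_ (fun i => ?_) i <;> simp [hypVals]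
      exact DFunLike.congr_fun this f
    rw [hG, Polynomial.map_mul, Polynomial.map_C, map_straighten, ← heΩ] at hirr
    rw [irreducible_isUnit_mul (by simp [top, hc.1])] at hirr
    rw [hmap]
    exact (MulEquiv.irreducible_iff eΩ).mp hirr

/-- A generic hyperplane section of an irreducible hypersurface is irreducible. -/
theorem step [IsAlgClosed K] {M : ℕ} (hM : 1 ≤ M) {f : MvPolynomial (Fin (M + 2)) K} (hf : Irreducible f) :
    ∃ (Ω : Type u) (_ : Field Ω) (_ : IsAlgClosed Ω) (_ : Algebra K Ω) (b : Option (Fin (M + 1)) → Ω),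
      AlgebraicIndependent K b ∧ Irreducible (aeval (hypVals b) f) := by
  classical
  by_cases h : ∃ i0 : Fin (M + 1), f.degreeOf i0.castSucc ≠ 0
  · exact step_general hM hf h.choose_spec
  push Not at h
  -- only the last variable occurs
  obtain ⟨q, rfl⟩ : ∃ q : Polynomial K, Polynomial.aeval (X (Fin.last (M + 1))) q = f := by
    refine ⟨aeval (Fin.lastCases Polynomial.X fun _ => 0) f, ?_⟩
    have : ∀ g : MvPolynomial (Fin (M + 2)) K, (∀ i : Fin (M + 1), g.degreeOf i.castSucc = 0) →
        Polynomial.aeval (X (Fin.last (M + 1))) (aeval (Fin.lastCases Polynomial.X fun _ => 0) g : Polynomial K) = g := by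
      intro g hg
      rw [← AlgHom.comp_apply, comp_aeval]
      conv_rhs => rw [← aeval_X_left_apply g]
      refine eval₂Hom_congr' rfl (fun i hi _ => ?_) rfl
      refine Fin.lastCases (fun _ => ?_) (fun i hi => ?_) i hi
      · simp
      exact absurd hi (degreeOf_zero_iff_notMem_vars.mp (hg i))
    exact this f h
  have hinj : Function.Injective (Polynomial.aeval (X (Fin.last (M + 1))) :
      Polynomial K →ₐ[K] MvPolynomial (Fin (M + 2)) K) := by
    intro a b hab
    have := congrArg (aeval (fun _ => (Polynomial.X : Polynomial K))) hab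
    simpa [← Polynomial.aeval_algHom_apply] using this
  have hq : Irreducible q := by
    refine ⟨fun hu => hf.not_isUnit (hu.map _), fun a b hab => ?_⟩
    have hu : ∀ a : Polynomial K,
        IsUnit (Polynomial.aeval (X (Fin.last (M + 1)) : MvPolynomial (Fin (M + 2)) K) a) → IsUnit a := fun a ha => by
      have := ha.map (aeval (R := K) (fun _ : Fin (M + 2) => (Polynomial.X : Polynomial K)))
      rwa [← Polynomial.aeval_algHom_apply, aeval_X, Polynomial.aeval_X_left_apply] at this
    rcases hf.isUnit_or_isUnit (by rw [hab, map_mul]) with h1 | h1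
    exacts [Or.inl (hu a h1), Or.inr (hu b h1)]
  have hdeg : q.degree = 1 := IsAlgClosed.degree_eq_one_of_irreducible K hq
  let Ω := AlgebraicClosure (FractionRing (MvPolynomial (Option (Fin (M + 1))) K))
  let b : Option (Fin (M + 1)) → Ω := fun o => algebraMap (MvPolynomial (Option (Fin (M + 1))) K) Ω (X o)
  have hb : AlgebraicIndependent K b := by
    rw [algebraicIndependent_iff_injective_aeval]
    have : (aeval b : (MvPolynomial (Option (Fin (M + 1))) K) →ₐ[K] Ω) = IsScalarTower.toAlgHom K (MvPolynomial (Option (Fin (M + 1))) K) Ω := by ext o; simp [b]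
    rw [this]
    change Function.Injective (algebraMap (MvPolynomial (Option (Fin (M + 1))) K) Ω)
    rw [IsScalarTower.algebraMap_eq (MvPolynomial (Option (Fin (M + 1))) K) (FractionRing (MvPolynomial (Option (Fin (M + 1))) K)) Ω]
    exact (algebraMap (FractionRing (MvPolynomial (Option (Fin (M + 1))) K)) Ω).injective.comp (IsFractionRing.injective (MvPolynomial (Option (Fin (M + 1))) K) _)
  refine ⟨Ω, inferInstance, inferInstance, inferInstance, b, hb, ?_⟩
  refine irreducible_of_totalDegree_eq_one ?_
  rw [← Polynomial.aeval_algHom_apply, aeval_X, Polynomial.eq_X_add_C_of_degree_eq_one hdeg]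
  simp only [hypVals, Fin.lastCases_last, map_add, map_mul, Polynomial.aeval_C, Polynomial.aeval_X]
  rw [show ∀ a : K, algebraMap K (MvPolynomial (Fin (M + 1)) Ω) a = C (algebraMap K Ω a) from fun a => rfl,
    show ∀ a : K, algebraMap K (MvPolynomial (Fin (M + 1)) Ω) a = C (algebraMap K Ω a) from fun a => rfl]
  refine le_antisymm ?_ ?_
  · refine (totalDegree_add _ _).trans (max_le ((totalDegree_mul _ _).trans ?_) (by simp))
    rw [totalDegree_C, zero_add]
    refine (totalDegree_add _ _).trans (max_le (by simp) ((totalDegree_finsetSum _ _).trans (Finset.sup_le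
      fun i _ => (totalDegree_mul _ _).trans (by simp))))
  · refine le_trans ?_ (le_totalDegree (s := Finsupp.single 0 1) ?_)
    · simp
    · rw [mem_support_iff]
      have hne : (0 : Fin (M + 1) →₀ ℕ) ≠ Finsupp.single 0 1 := (Finsupp.single_ne_zero.mpr one_ne_zero).symm
      simp only [mul_add, Finset.mul_sum, coeff_add, coeff_C_mul, coeff_C, if_neg hne, mul_zero, zero_add, add_zero,
        coeff_sum, coeff_X, Finsupp.single_left_inj one_ne_zero, mul_ite, mul_one, Finset.sum_ite_eq', Finset.mem_univ,
        if_true]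
      refine mul_ne_zero ?_ (hb.ne_zero (some 0))
      exact (_root_.map_ne_zero _).mpr (Polynomial.leadingCoeff_ne_zero.mpr hq.ne_zero)

end Groth.L03.LWU
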